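import Cfsg.Agent.Coset.Table
import Cfsg.Agent.Coset.Suz.Schur.T6Data

/-! A coset table for lifts with some relators only central. -/

set_option autoImplicit false
set_option maxRecDepth 100000
set_option Elab.async false

namespace CfsgLib.Coset.Suz.Schur.T6

/-- The relators, renumbered. -/
def lrels : List (List Nat) := [[0, 0], [0, 1, 0, 1, 0, 1, 0, 1, 0, 1], [0, 2, 0, 2], [0, 3, 0, 3], [0, 4, 0, 4], [1, 1], [1, 2, 1, 2, 1, 2], [1, 3, 1, 3], [1, 4, 1, 4], [2, 2], [2, 3, 2, 3, 2, 3, 2, 3, 2, 3, 2, 3, 2, 3, 2, 3], [2, 4, 2, 4], [3, 3], [3, 4, 3, 4, 3, 4], [4, 4], [0, 3, 2, 3, 2, 3, 2, 3, 2], [1, 2, 3, 2, 3, 1, 2, 3, 2, 3, 1, 2, 3, 2, 3, 1, 2, 3, 2, 3, 1, 2, 3, 2, 3, 4, 1, 2, 3, 2, 3, 1, 2, 3, 2, 3, 1,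 2, 3, 2, 3, 1, 2, 3, 2, 3, 1, 2, 3, 2, 3, 4, 1, 2, 3, 2, 3, 1, 2, 3, 2, 3, 1, 2, 3, 2, 3, 1, 2, 3, 2, 3, 1, 2, 3, 2, 3, 4], [5, 5], [1, 5, 1, 5, 1, 5], [0, 5, 0, 5, 0, 5, 0, 5, 0, 0], [0, 5, 0, 5, 1, 5, 0, 5, 0, 1], [0, 5, 0, 5, 2, 5, 0, 5, 0, 2], [0, 5, 0, 5, 3, 5, 0, 5, 0, 3], [0, 5, 0, 5, 4, 5, 0, 5, 0, 4], [0, 5, 0, 5, 5, 5, 0, 5, 0, 5], [2, 5, 2, 5, 0, 5, 2, 5, 2, 0], [2, 5, 2, 5, 1, 5, 2, 5, 2, 1], [2, 5, 2, 5, 2, 5, 2, 5, 2, 2], [2, 5, 2, 5, 3, 5, 2, 5, 2, 3], [2, 5, 2, 5, 4, 5, 2, 5, 2, 4], [2, 5, 2, 5, 5, 5, 2, 5, 2, 5], [3, 5, 3, 5, 0, 5, 3, 5, 3, 0], [3, 5, 3, 5, 1, 5, 3, 5, 3, 1], [3, 5, 3, 5, 2, 5, 3, 5, 3, 2], [3, 5, 3, 5, 3, 5, 3, 5, 3, 3], [3, 5, 3, 5, 4, 5, 3, 5, 3, 4], [3, 5, 3, 5, 5, 5,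 3, 5, 3, 5], [4, 5, 4, 5, 0, 5, 4, 5, 4, 0], [4, 5, 4, 5, 1, 5, 4, 5, 4, 1], [4, 5, 4, 5, 2, 5, 4, 5, 4, 2], [4, 5, 4, 5, 3, 5, 4, 5, 4, 3], [4, 5, 4, 5, 4, 5, 4, 5, 4, 4], [4, 5, 4, 5, 5, 5, 4, 5, 4, 5], [0, 1, 2, 5, 0, 1, 2, 5, 0, 1, 2, 5, 0, 1, 2, 5, 0, 1, 2, 5, 0, 5, 2, 1, 0, 5, 2, 1, 0, 5, 2, 1, 0, 5, 2, 1, 0, 5, 2, 1, 0, 0], [0, 1, 2, 5, 0, 1, 2, 5, 0, 1, 2, 5, 0, 1, 2, 5, 0, 1, 2, 5, 1, 5, 2, 1, 0, 5, 2, 1, 0, 5, 2, 1, 0, 5, 2, 1, 0, 5, 2, 1, 0, 1], [0, 1, 2, 5, 0, 1, 2, 5, 0, 1, 2, 5, 0, 1, 2, 5, 0, 1, 2, 5, 2, 5, 2, 1, 0, 5, 2, 1, 0, 5, 2, 1, 0, 5, 2, 1, 0, 5, 2, 1, 0, 2], [0, 1, 2, 5, 0, 1, 2, 5, 0, 1, 2, 5, 0, 1, 2, 5, 0, 1, 2, 5, 3, 5, 2, 1, 0, 5, 2, 1, 0, 5, 2, 1, 0, 5, 2, 1, 0, 5, 2, 1, 0, 3],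 [0, 1, 2, 5, 0, 1, 2, 5, 0, 1, 2, 5, 0, 1, 2, 5, 0, 1, 2, 5, 4, 5, 2, 1, 0, 5, 2, 1, 0, 5, 2, 1, 0, 5, 2, 1, 0, 5, 2, 1, 0, 4], [0, 1, 2, 5, 0, 1, 2, 5, 0, 1, 2, 5, 0, 1, 2, 5, 0, 1, 2, 5, 5, 5, 2, 1, 0, 5, 2, 1, 0, 5, 2, 1, 0, 5, 2, 1, 0, 5, 2, 1, 0, 5]]

theorem hR : checkRules lrels subs R = true := by decide +kernel
theorem hdefs : checkDefs E 6 11 1949 = true := by decide +kernel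
theorem hsteps : checkChunks E id R 6 7 1949 78 C = true := by decide +kernel
theorem htable : checkTable E id (1949 + chunk * 78) 416 6 9 3 Rep Ref Tb = true := by decide +kernel

end CfsgLib.Coset.Suz.Schur.T6
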