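import Cfsg.Agent.Coset.Suz.Rels

/-! Words used for the lifts of the generators of `Cfsg.Spor.Suz` to a stem extension. -/

set_option autoImplicit false

namespace CfsgLib.Coset.Suz.Schur

/-- The relators that can be made exact. -/
def base : List (List Nat) := [[0, 0], [1, 1], [2, 2], [3, 3], [4, 4], [5, 5], [6, 6], [0, 1, 0, 1, 0, 1, 0, 1, 0, 1], [0, 2, 0, 2], [0, 3, 0, 3], [1, 2, 1, 2, 1, 2], [1, 5, 1, 5, 1, 5], [1, 6, 1, 6, 1, 6], [2, 3, 2, 3, 2, 3, 2, 3, 2, 3, 2, 3, 2, 3, 2, 3], [3, 4, 3, 4, 3, 4], [0, 3, 2, 3, 2, 3, 2, 3, 2]]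

/-- The last relator. -/
def rJ : List Nat := [1, 2, 3, 2, 3, 1, 2, 3, 2, 3, 1, 2, 3, 2, 3, 1, 2, 3, 2, 3, 1, 2, 3, 2, 3, 4, 1, 2, 3, 2, 3, 1, 2, 3, 2, 3, 1, 2, 3, 2, 3, 1, 2, 3, 2, 3, 1, 2, 3, 2, 3, 4, 1, 2, 3, 2, 3, 1, 2, 3, 2, 3, 1, 2, 3, 2, 3, 1, 2, 3, 2, 3, 1, 2, 3, 2, 3, 4]

/-- The relator on the fourth letter set. -/
def rB : List Nat := [1, 5, 6, 1, 5, 6, 1, 5, 6, 1, 5, 6, 1, 5, 6]

/-- The word of order three in the last relator. -/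
def wJ : List Nat := [1, 2, 3, 2, 3, 1, 2, 3, 2, 3, 1, 2, 3, 2, 3, 1, 2, 3, 2, 3, 1, 2, 3, 2, 3]

/-- An element fixing `e` and inverting the word of order three. -/
def gJ : List Nat := [3, 2, 1, 0, 1, 3, 2, 1, 5, 6, 1, 2, 3, 4, 2, 1, 6, 5, 2, 1, 6, 4, 2, 3, 1, 0, 1, 2, 3]

/-- An element inverting the product of the three generators. -/
def gB : List Nat := [5, 6, 1, 5, 6, 5, 1, 6, 5]

/-- Conjugators of `a` giving `b`, `c`, `f`, `g`. -/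
def qa : List (Nat × List Nat) := [(1, [0, 1, 0, 1]), (2, [1, 2, 0, 1, 0, 1]), (5, [1, 5, 0, 1, 0, 1]), (6, [1, 6, 0, 1, 0, 1])]

/-- A conjugator of `d` giving `e`. -/
def qe : List Nat := [3, 4]

/-- Conjugators of `d`: two commuting conjugates with a conjugate as product. -/
def qy : List Nat := [2, 1, 6, 5, 4, 1, 2]

/-- The conjugator of the product. -/
def qs : List Nat := [2, 1, 0, 1, 0, 4, 3, 2, 1, 3, 2, 3, 4, 3, 2, 1, 0, 3, 2, 1, 5, 6, 3, 1, 2]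

/-- Conjugators of `a` for an elementary abelian group of order eight. -/
def qE : List (List Nat) := [[], [1, 5, 2, 1], [6, 1, 5, 2, 1], [6, 1, 2, 0, 1, 5, 1, 0, 1], [1, 2, 0, 1, 5, 1, 0, 1], [1, 0, 1, 2, 0, 1], [1, 2, 0, 1, 0, 1]]

end CfsgLib.Coset.Suz.Schur
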