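import Cfsg.Agent.Coset.Suz.Main
import Cfsg.Agent.Coset.Suz.Schur.Words
import Cfsg.Agent.Coset.Suz.Schur.T4
import Cfsg.Agent.Coset.Suz.Schur.T5
import Cfsg.Agent.Coset.Suz.Schur.T6
import Cfsg.Agent.Coset.Suz.Schur.T7
import Cfsg.Agent.Multiplier.Reduce

/-!
Lifts of the generators of `Cfsg.Spor.Suz` to a stem extension: coset tables with some relators
only central bound the lifted subgroups, so these meet the kernel trivially.
-/

set_option autoImplicit false
set_option maxRecDepth 100000
set_option Elab.async false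

namespace CfsgLib.Coset.Suz.Schur

open CfsgLib.Coset

section Kernel

/-- A conjugate of a letter, as a word. -/
def cw (q : List Nat) (l : Nat) : List Nat := q ++ (l :: q.reverse)

/-- The products `r x r⁻¹ x` over the given letters. -/
def cen (ks : List Nat) (r : List Nat) : List (List Nat) :=
  ks.map fun x => r ++ x :: (r.reverse ++ [x])

/-- The relators on the first `m` letters. -/
def below (m : Nat) : List (List Nat) := rels.filter fun w => w.all fun l => decide (l < m)

/-- The base relators on the first `m` letters. -/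
def baseBelow (m : Nat) : List (List Nat) := base.filter fun w => w.all fun l => decide (l < m)

/-- Two words act equally on all points. -/
noncomputable def sameW (v w : List Nat) : Bool :=
  cond (checkLetters 7 [v ++ w.reverse]) (checkRels 1782 11 Top.Tb [v ++ w.reverse]) false

/-- Relator sets of the levels. -/
def R4 : List (List Nat) := baseBelow 4 ++ (below 4).flatMap (cen (List.range 4))

/-- Relator sets of the levels. -/
def R5 : List (List Nat) :=
  (rJ :: below 4 ++ baseBelow 5) ++ (below 5).flatMap (cen (List.range 5))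

/-- Relator sets of the levels. -/
def R6 : List (List Nat) :=
  (below 5 ++ baseBelow 6) ++ (below 6).flatMap (cen (List.range 6))

/-- Relator sets of the levels. -/
def R7 : List (List Nat) :=
  ((rB ++ rB) :: below 6 ++ base) ++ rels.flatMap (cen (List.range 7))

end Kernel

variable {Γ : Type} [Group Γ] {σ : Γ →* Cfsg.Spor.Suz}

theorem central (hs : Cfsg.IsStemExtension σ) {z : Γ} (hz : σ z = 1) (x : Γ) : x * z = z * x :=
  Subgroup.mem_center_iff.mp (hs.2.1 (MonoidHom.mem_ker.mpr hz)) x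

/-- Involutive lifts of the letters. -/
structure IsLift (σ : Γ →* Cfsg.Spor.Suz) (L : List Γ) : Prop where
  len : L.length = 7
  img : ∀ l, σ (fl L l) = fl Lg l
  sq : ∀ x, fl L x * fl L x = 1

theorem map_ev {L : List Γ} (hL : ∀ l, σ (fl L l) = fl Lg l) :
    ∀ w : List Nat, σ (ev L w) = ev Lg w
  | [] => by simp
  | l :: w => by rw [ev_cons, ev_cons, map_mul, map_ev hL w, hL]

theorem ev_reverse {G : Type*} [Group G] {L : List G} (h2 : ∀ x, fl L x * fl L x = 1) :
    ∀ w : List Nat, ev L w.reverse = (ev L w)⁻¹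
  | [] => by simp
  | l :: w => by
    rw [List.reverse_cons, ev_append, ev_reverse h2 w, ev_cons, ev_cons, ev_nil, mul_one,
      mul_inv_rev, inv_eq_of_mul_eq_one_right (h2 l)]

theorem ev_cw {G : Type*} [Group G] {L : List G} (h2 : ∀ x, fl L x * fl L x = 1) (q : List Nat)
    (l : Nat) : ev L (cw q l) = ev L q * fl L l * (ev L q)⁻¹ := by
  rw [cw, ev_append, ev_cons, ev_reverse h2, mul_assoc]

theorem ev_Lg_eq_one {w : List Nat} (hl : checkLetters 7 [w] = true)
    (hc : checkRels 1782 11 Top.Tb [w] = true) : ev Lg w = 1 := by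
  apply card_and_injective.2
  rw [map_one]
  refine Equiv.ext fun i => ?_
  have h := allList_iff.mp (of_allBelow hc i i.2) _ (List.mem_singleton_self _)
  exact (matches_ρ.fix_iff (letters_lt hl w (List.mem_singleton_self _))).mpr
    (Nat.eq_of_beq_eq_true h)

theorem sameW_eq {v w : List Nat} (h : sameW v w = true) : ev Lg v = ev Lg w := by
  obtain ⟨h1, h2⟩ := cond_false_eq_true.mp h
  have := ev_Lg_eq_one h1 h2
  rwa [ev_append, ev_reverse sq_all, mul_inv_eq_one] at this

theorem cen_one (hs : Cfsg.IsStemExtension σ) {L : List Γ} (hL : IsLift σ L) {r : List Nat}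
    (hr : ev Lg r = 1) (ks : List Nat) : ∀ w ∈ cen ks r, ev L w = 1 := by
  intro w hw
  obtain ⟨x, -, rfl⟩ := List.mem_map.mp hw
  have hc := central hs (show σ (ev L r) = 1 by rw [map_ev hL.img, hr]) (fl L x)
  rw [ev_append, ev_cons, ev_append, ev_reverse hL.sq, ev_cons, ev_nil, mul_one, ← mul_assoc,
    ← hc, ← mul_assoc, mul_inv_cancel_right, hL.sq]

theorem cenAll_one (hs : Cfsg.IsStemExtension σ) {L : List Γ} (hL : IsLift σ L)
    {rs : List (List Nat)} (hr : ∀ r ∈ rs, r ∈ rels) (ks : List Nat) :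
    ∀ w ∈ rs.flatMap (cen ks), ev L w = 1 := by
  intro w hw
  obtain ⟨r, hr', hw⟩ := List.mem_flatMap.mp hw
  exact cen_one hs hL (ev_rels r (hr r hr')) ks w hw

theorem map_genBy {L : List Γ} (hL : ∀ l, σ (fl L l) = fl Lg l) (S : List Nat) :
    (genBy L S).map σ = genBy Lg S := by
  rw [genBy, genBy, MonoidHom.map_closure]
  congr 1
  ext y
  simp only [Set.mem_image, Set.mem_ofPred_eq, lv, List.mem_map]
  constructor
  · rintro ⟨_, ⟨l, hl, rfl⟩, rfl⟩
    exact ⟨l, hl, (hL l).symm⟩
  · rintro ⟨l, hl, rfl⟩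
    exact ⟨_, ⟨l, hl, rfl⟩, hL l⟩

/-- A lifted subgroup no larger than its image meets the kernel trivially. -/
theorem inj_of_card {L : List Γ} (hL : ∀ l, σ (fl L l) = fl Lg l) {S : List Nat} {N : ℕ}
    (hc : Finite (genBy L S) ∧ Nat.card (genBy L S) ≤ N) (hN : N ≤ Nat.card (genBy Lg S)) :
    ∀ x ∈ genBy L S, σ x = 1 → x = 1 := by
  intro x hx hσ
  have := hc.1
  let f : genBy L S →* ((genBy L S).map σ : Subgroup Cfsg.Spor.Suz) :=
    (σ.comp (genBy L S).subtype).codRestrict _ fun y => Subgroup.mem_map_of_mem σ y.2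
  have hf : Function.Surjective f := by
    rintro ⟨_, y, hy, rfl⟩
    exact ⟨⟨y, hy⟩, rfl⟩
  have := Finite.of_surjective f hf
  have hle := Nat.card_le_card_of_surjective f hf
  have hb : Function.Bijective f := by
    refine (Nat.bijective_iff_surjective_and_card f).mpr ⟨hf, le_antisymm ?_ hle⟩
    rw [map_genBy hL]
    exact hc.2.trans hN
  have h1 : f ⟨x, hx⟩ = f 1 := by
    rw [map_one]
    exact Subtype.ext hσ
  exact congrArg Subtype.val (hb.1 h1)

theorem exact_of_inj {L : List Γ} (hL : IsLift σ L) {S : List Nat}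
    (hi : ∀ x ∈ genBy L S, σ x = 1 → x = 1) {w : List Nat} (hl : ∀ l ∈ w, l ∈ S)
    (hw : ev Lg w = 1) : ev L w = 1 :=
  hi _ (ev_mem_genBy S hl) (by rw [map_ev hL.img, hw])

theorem below_one {L : List Γ} (hL : IsLift σ L) {m : Nat}
    (hi : ∀ x ∈ genBy L (List.range m), σ x = 1 → x = 1) : ∀ w ∈ below m, ev L w = 1 := by
  intro w hw
  simp only [below, List.mem_filter, List.all_eq_true, decide_eq_true_eq] at hw
  exact exact_of_inj hL hi (fun l hl => List.mem_range.mpr (hw.2 l hl)) (ev_rels w hw.1)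

theorem below_sub (m : Nat) : ∀ w ∈ below m, w ∈ rels := fun _ hw => (List.mem_filter.mp hw).1

theorem baseBelow_sub (m : Nat) : ∀ w ∈ baseBelow m, w ∈ base :=
  fun _ hw => (List.mem_filter.mp hw).1

/-- A step of the chain of lifted subgroups. -/
theorem step {L : List Γ} (hL : IsLift σ L) {Rk : List (List Nat)}
    (hR : ∀ w ∈ Rk, ev L w = 1) {S S' : List Nat} {k m : Nat} (hk : S.length = k)
    {rs subs : List (List Nat)} {E Rep Tb : Nat → Nat}
    {R : Tr (List Nat × Nat)} {d d' N nC n dn dk : Nat} {C Ref : Nat → Nat} (hn : 0 < n)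
    (hc : checkLevel Rk 7 S S' rs subs = true) (hr : checkRules rs subs R = true)
    (hd : checkDefs E k d' N = true) (hst : checkChunks E id R k d N nC C = true)
    (ht : checkTable E id (N + chunk * nC) n k dn dk Rep Ref Tb = true)
    (hm : Finite (genBy L S') ∧ Nat.card (genBy L S') ≤ m) :
    Finite (genBy L S) ∧ Nat.card (genBy L S) ≤ n * m := by
  have hl : (lv L S).length = k := by simp [lv, hk]
  exact level_card (tableOK_of_check (inv_lv hL.sq S) hr (hl.symm ▸ hd) (hl.symm ▸ hst)
    (hl.symm ▸ ht) (level_rels hL.len hc hR) (level_subs hL.len hc)) hn hc hm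

theorem c4 : checkLevel R4 7 [0, 1, 2, 3] [0, 2, 3] T4.lrels T4.subs = true := by decide +kernel
theorem c3 : checkLevel R4 7 [0, 2, 3] [] L4.lrels L4.subs = true := by decide +kernel
theorem c5 : checkLevel R5 7 [0, 1, 2, 3, 4] [0, 1, 2, 3] T5.lrels T5.subs = true := by
  decide +kernel
theorem c6 : checkLevel R6 7 [0, 1, 2, 3, 4, 5] [0, 1, 2, 3, 4] T6.lrels T6.subs = true := by
  decide +kernel
theorem c7 : checkLevel R7 7 [0, 1, 2, 3, 4, 5, 6] [0, 1, 2, 3, 4, 5] T7.lrels T7.subs = true := by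
  decide +kernel

theorem card_levels : 251596800 ≤ Nat.card (genBy Lg [0, 1, 2, 3, 4, 5]) ∧
    604800 ≤ Nat.card (genBy Lg [0, 1, 2, 3, 4]) ∧ 2160 ≤ Nat.card (genBy Lg [0, 1, 2, 3]) := by
  have := card_le.1
  have hH : H = genBy Lg [0, 1, 2, 3, 4, 5] := genW_singletons [0, 1, 2, 3, 4, 5]
  have h := H.card_mul_index
  rw [index_and_eq.1, card_and_injective.1, hH] at h
  have c1 : checkLevel rels 7 [0, 1, 2, 3, 4, 5] [0, 1, 2, 3, 4] L1.lrels L1.subs = true := by
    decide +kernel
  have c2 : checkLevel rels 7 [0, 1, 2, 3, 4] [0, 1, 2, 3] L2.lrels L2.subs = true := by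
    decide +kernel
  have h1 := (level_card (level 6 rfl c1 L1.hR L1.hdefs L1.hsteps L1.htable) (by decide) c1
    ⟨inferInstance, le_rfl⟩).2
  have h2 := (level_card (level 5 rfl c2 L2.hR L2.hdefs L2.hsteps L2.htable) (by decide) c2
    ⟨inferInstance, le_rfl⟩).2
  omega

theorem card4 (hs : Cfsg.IsStemExtension σ) {L : List Γ} (hL : IsLift σ L)
    (hb : ∀ w ∈ base, ev L w = 1) :
    Finite (genBy L [0, 1, 2, 3]) ∧ Nat.card (genBy L [0, 1, 2, 3]) ≤ 135 * (16 * 1) := by
  have hR : ∀ w ∈ R4, ev L w = 1 := by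
    intro w hw
    rcases List.mem_append.mp hw with hw | hw
    · exact hb w (baseBelow_sub 4 w hw)
    · exact cenAll_one hs hL (below_sub 4) _ w hw
  exact step hL hR (k := 4) rfl (by norm_num) c4 T4.hR T4.hdefs T4.hsteps T4.htable
    (step hL hR (k := 3) rfl (by norm_num) c3 L4.hR L4.hdefs L4.hsteps L4.htable card_genBy_nil)

theorem inj4 (hs : Cfsg.IsStemExtension σ) {L : List Γ} (hL : IsLift σ L)
    (hb : ∀ w ∈ base, ev L w = 1) : ∀ x ∈ genBy L (List.range 4), σ x = 1 → x = 1 :=
  inj_of_card hL.img (card4 hs hL hb) (le_trans (by norm_num) card_levels.2.2)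

theorem inj6 (hs : Cfsg.IsStemExtension σ) {L : List Γ} (hL : IsLift σ L)
    (hb : ∀ w ∈ base, ev L w = 1) (hJ : ev L rJ = 1) :
    ∀ x ∈ genBy L (List.range 6), σ x = 1 → x = 1 := by
  have hR5 : ∀ w ∈ R5, ev L w = 1 := by
    intro w hw
    rcases List.mem_append.mp hw with hw | hw
    · rcases List.mem_append.mp hw with hw | hw
      · rcases List.mem_cons.mp hw with rfl | hw
        · exact hJ
        · exact below_one hL (inj4 hs hL hb) w hw
      · exact hb w (baseBelow_sub 5 w hw)
    · exact cenAll_one hs hL (below_sub 5) _ w hw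
  have h5 := step hL hR5 (k := 5) rfl (by norm_num) c5 T5.hR T5.hdefs T5.hsteps T5.htable
    (card4 hs hL hb)
  have hi5 : ∀ x ∈ genBy L (List.range 5), σ x = 1 → x = 1 :=
    inj_of_card hL.img h5 (le_trans (by norm_num) card_levels.2.1)
  have hR6 : ∀ w ∈ R6, ev L w = 1 := by
    intro w hw
    rcases List.mem_append.mp hw with hw | hw
    · rcases List.mem_append.mp hw with hw | hw
      · exact below_one hL hi5 w hw
      · exact hb w (baseBelow_sub 6 w hw)
    · exact cenAll_one hs hL (below_sub 6) _ w hw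
  exact inj_of_card hL.img
    (step hL hR6 (k := 6) rfl (by norm_num) c6 T6.hR T6.hdefs T6.hsteps T6.htable h5)
    (le_trans (by norm_num) card_levels.1)

theorem inj7 (hs : Cfsg.IsStemExtension σ) {L : List Γ} (hL : IsLift σ L)
    (hb : ∀ w ∈ base, ev L w = 1) (hJ : ev L rJ = 1) (hB : ev L (rB ++ rB) = 1) :
    ∀ x ∈ genBy L (List.range 7), σ x = 1 → x = 1 := by
  have hi := inj6 hs hL hb hJ
  have hR7 : ∀ w ∈ R7, ev L w = 1 := by
    intro w hw
    rcases List.mem_append.mp hw with hw | hw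
    · rcases List.mem_append.mp hw with hw | hw
      · rcases List.mem_cons.mp hw with rfl | hw
        · exact hB
        · exact below_one hL hi w hw
      · exact hb w hw
    · exact cenAll_one hs hL (fun _ h => h) _ w hw
  have h6 : Finite (genBy L [0, 1, 2, 3, 4, 5]) ∧ Nat.card (genBy L [0, 1, 2, 3, 4, 5]) ≤
      Nat.card (genBy Lg [0, 1, 2, 3, 4, 5]) := by
    have := card_le.1
    let f : genBy L [0, 1, 2, 3, 4, 5] → Cfsg.Spor.Suz := fun x => σ x
    have hf : Function.Injective f := fun a b h => by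
      have := hi _ (mul_mem a.2 (inv_mem b.2)) (by rw [map_mul, map_inv]; exact mul_inv_eq_one.mpr h)
      exact Subtype.ext (mul_inv_eq_one.mp this)
    refine ⟨Finite.of_injective f hf, ?_⟩
    refine Nat.card_le_card_of_injective (fun x => (⟨σ x, map_genBy hL.img _ ▸
      Subgroup.mem_map_of_mem σ x.2⟩ : genBy Lg [0, 1, 2, 3, 4, 5])) fun a b h => hf ?_
    exact congrArg Subtype.val h
  refine inj_of_card hL.img
    (step hL hR7 (k := 7) rfl (by norm_num) c7 T7.hR T7.hdefs T7.hsteps T7.htable h6) ?_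
  have hH : H = genBy Lg [0, 1, 2, 3, 4, 5] := genW_singletons [0, 1, 2, 3, 4, 5]
  have := card_le.1
  have ht : genBy Lg (List.range 7) = ⊤ := by
    have := genBy_range closure_Lg
    rwa [len_Lg] at this
  rw [ht, Subgroup.card_top, ← hH]
  exact le_of_eq (by rw [← H.card_mul_index, index_and_eq.1, mul_comm])

/-- Lifts satisfying all relators split the extension. -/
theorem ker_eq_bot (hs : Cfsg.IsStemExtension σ) {L : List Γ} (hL : IsLift σ L)
    (hr : ∀ w ∈ rels, ev L w = 1) : σ.ker = ⊥ := by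
  let s : Cfsg.Spor.Suz →* Γ := pres.hom pres_ok (L := L) (by rw [rels_eq]; exact hr)
  have hsec : ∀ x, σ (s x) = x := by
    intro x
    have hx : x ∈ Subgroup.closure {y | y ∈ Lg} := closure_Lg ▸ Subgroup.mem_top x
    induction hx using Subgroup.closure_induction with
    | mem y hy =>
      obtain ⟨l, hl, rfl⟩ := List.getElem_of_mem hy
      rw [← List.getD_eq_getElem Lg 1 hl]
      obtain ⟨i, rfl⟩ := hix l (by simpa [len_Lg] using hl)
      show σ (s (fl Lg (ix i))) = fl Lg (ix i)
      exact (congrArg σ (pres.hom_fl pres_ok _ i)).trans (hL.img (ix i))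
    | one => simp
    | mul a b _ _ ha hb => rw [map_mul, map_mul, ha, hb]
    | inv a _ ha => rw [map_inv, map_inv, ha]
  refine CfsgLib.Multiplier.ker_eq_bot_of_complement σ hs s.range ?_ ?_
  · rw [eq_bot_iff]
    rintro y ⟨⟨x, rfl⟩, hy⟩
    rw [Subgroup.mem_bot]
    have : x = 1 := (hsec x).symm.trans (MonoidHom.mem_ker.mp hy)
    rw [this, map_one]
  · refine eq_top_iff.mpr fun y _ => ?_
    have hy : (s (σ y))⁻¹ * y ∈ σ.ker := by
      rw [MonoidHom.mem_ker, map_mul, map_inv, hsec, inv_mul_cancel]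
    rw [show y = s (σ y) * ((s (σ y))⁻¹ * y) by group]
    exact Subgroup.mul_mem_sup ⟨σ y, rfl⟩ hy

end CfsgLib.Coset.Suz.Schur
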