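import Cfsg.Agent.Coset.Prim

/-! The elements of the subgroup generated by `b, f, g` as words, sorted by their keys. -/

set_option autoImplicit false
set_option maxRecDepth 100000

namespace CfsgLib.Coset.Suz.Schur

/-- The elements of the subgroup generated by `b, f, g`. -/
def bfgWords : List (List Nat) := [[], [5, 1, 6, 5, 1, 6, 1, 5, 6, 1, 5, 1], [1, 5, 1, 6, 5, 1, 6, 1, 5, 6, 1, 5], [5, 6, 5, 6], [1, 6, 5, 1, 6, 1, 5, 6, 1, 5, 1], [1, 5, 6, 5, 1, 6, 1, 5, 6, 1], [5], [5, 1, 6, 5, 1, 6, 1, 5, 6, 5, 1], [1, 5, 1, 6, 5, 1, 6, 1, 5, 6, 1], [6, 5, 6], [1, 6, 5, 1, 6, 1, 5, 6, 5, 1], [1, 5, 6, 5, 1, 6, 1, 5, 6, 1, 5], [1], [5, 1, 6, 5, 1, 6, 1, 5, 6, 1,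 5], [6, 5, 1, 6, 1, 5, 6, 5, 1, 6, 5, 6], [6, 5, 6, 1], [1, 6, 5, 1, 6, 1, 5, 6, 5], [1, 5, 6, 5, 1, 6, 1, 5, 6, 1, 5, 1], [5, 1], [5, 1, 6, 5, 1, 6, 1, 5, 6, 5], [1, 5, 1, 6, 5, 1, 6, 1, 5, 6], [5, 6, 5, 6, 1], [1, 5, 6, 5, 1, 6, 1, 5, 6], [1, 6, 5, 1, 6, 1, 5, 6, 1, 5], [1, 5, 6, 5, 6], [5, 6, 5, 1, 6, 1, 5, 6, 1], [6, 5, 1, 6, 1, 5, 6, 1, 5, 1], [6, 5, 1, 6, 1, 5, 6, 5], [1, 6, 5, 6, 1], [5, 6, 5, 1, 6, 1, 5, 6, 1, 5, 1], [5, 6, 5, 1, 6, 1, 5, 6, 5], [1, 5, 6, 5, 6, 1, 5], [6, 5, 1, 6, 1, 5, 6, 1], [1, 5, 1, 6, 5, 6], [1, 5, 1, 6, 5, 6, 1, 5], [5, 1, 6, 5, 6, 1], [1, 5], [1, 5, 1, 6, 5, 1, 6, 1, 5, 6, 5, 1], [5, 1, 6, 5, 1, 6, 1, 5, 6, 1], [1, 5, 1],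 [5, 1, 6, 5, 1, 6, 1, 5, 6], [1, 5, 1, 6, 5, 1, 6, 1, 5, 6, 5], [5, 6, 5, 6, 1, 5], [1, 5, 6, 5, 1, 6, 1, 5, 6, 5], [1, 6, 5, 1, 6, 1, 5, 6, 1], [6, 5, 6, 1, 5], [1, 5, 6, 5, 1, 6, 1, 5, 6, 5, 1], [1, 6, 5, 1, 6, 1, 5, 6], [1, 6, 5, 6], [6, 5, 1, 6, 1, 5, 6, 5, 1], [5, 6, 5, 1, 6, 1, 5, 6, 1, 5], [1, 5, 6, 5, 6, 1], [5, 6, 5, 1, 6, 1, 5, 6], [6, 5, 1, 6, 1, 5, 6, 1, 5], [5, 1, 6, 5, 6, 1, 5], [5, 1, 6, 5, 6], [1, 5, 1, 6, 5, 6, 1], [5, 6, 5, 1, 6, 1, 5, 6, 5, 1], [6, 5, 1, 6, 1, 5, 6], [1, 6, 5, 6, 1, 5], [6], [1, 6, 5, 1, 6, 1, 5, 6, 5, 1, 6, 5], [1, 5, 1, 6, 1, 5, 6, 5, 1, 6, 5, 1], [5, 6, 5], [1, 6, 1, 5, 6, 5, 1, 6, 5, 6, 1], [1, 5, 6, 5, 1, 6, 1, 5,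 1, 6, 1], [6, 5], [1, 6, 5, 1, 6, 1, 5, 6, 5, 1, 6], [1, 5, 6, 1, 5, 6, 5, 1, 6, 5, 1], [5, 6], [1, 6, 1, 5, 6, 5, 1, 6, 5, 6, 1, 5], [1, 6, 1, 5, 1, 6, 1, 5, 6, 5, 1], [1, 6], [6, 5, 1, 6, 1, 5, 6, 5, 1, 6, 5], [5, 1, 6, 1, 5, 6, 5, 1, 6, 5, 1], [6, 5, 1, 6, 1], [6, 5, 1, 6, 5, 6, 1, 5, 6, 5, 1], [1, 6, 5, 6, 1, 5, 6, 5], [5, 6, 5, 1, 6, 1], [1, 6, 1, 5, 6, 5, 1, 6, 5, 1], [1, 5, 6, 5, 1, 6, 1, 5], [5, 1, 6], [5, 1, 6, 5, 6, 1, 5, 6, 5], [1, 5, 1, 6, 5, 1, 6, 1, 5], [1, 5, 6, 5], [6, 1, 5, 6, 5, 1, 6, 5, 6, 1], [5, 6, 5, 1, 6, 1, 5, 1, 6, 1], [6, 5, 6, 1, 5, 6, 5], [1, 6, 5, 1, 6, 1], [5, 6, 1, 5, 6, 5, 1, 6, 5, 6, 1], [1, 5, 1, 6, 5, 6, 1, 5, 6], [1,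 5, 1, 6, 5], [5, 1, 6, 5, 1, 6, 1], [5, 6, 5, 6, 1, 5, 6, 5], [1, 5, 6, 5, 6, 1, 5, 6], [6, 5, 1, 6, 1, 5, 1, 6, 1], [1, 6, 5], [6, 5, 1, 6, 1, 5, 6, 5, 1, 6], [5, 6, 1, 5, 6, 5, 1, 6, 5, 1], [5, 6, 5, 1, 6, 1, 5], [6, 1, 5, 6, 5, 1, 6, 5, 1], [1, 5, 6, 5, 1, 6, 1], [5, 1, 6, 5, 6, 1, 5, 6], [5, 1, 6, 5], [1, 5, 1, 6, 5, 1, 6, 1], [6, 5, 1, 6, 1, 5], [5, 6, 5, 1, 6, 1, 5, 6, 5, 1, 6], [1, 6, 5, 6, 1, 5, 6], [1, 5, 6], [6, 1, 5, 6, 5, 1, 6, 5, 6, 1, 5], [6, 1, 5, 1, 6, 1, 5, 6, 5, 1], [5, 1, 6, 5, 1, 6, 1, 5], [1, 5, 1, 6], [1, 5, 1, 6, 5, 6, 1, 5, 6, 5], [5, 6, 5, 6, 1, 5, 6], [1, 5, 6, 5, 6, 1, 5, 6, 5], [1, 6, 5, 1, 6, 1, 5, 1, 6, 1], [6, 5, 6, 1, 5,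 6], [1, 5, 6, 5, 1, 6, 1, 5, 6, 5, 1, 6], [1, 6, 5, 1, 6, 1, 5], [6, 1], [1, 5, 1, 6, 1, 5, 6, 5, 1, 6, 5], [5, 1, 6, 1, 5, 6, 5, 1, 6, 5, 6], [5, 6, 1], [5, 1, 6, 5, 6, 1, 5, 6, 5, 1, 6], [1, 6, 1, 5, 1, 6, 1, 5, 6, 5], [6, 5, 1], [1, 6, 5, 6, 1, 5, 6, 5, 1, 6], [1, 5, 6, 1, 5, 6, 5, 1, 6, 5], [5, 6, 5, 1], [1, 6, 1, 5, 6, 5, 1, 6, 5, 6], [1, 5, 6, 5, 1, 6, 1, 5, 1, 6], [1, 6, 1], [5, 1, 6, 1, 5, 6, 5, 1, 6, 5], [5, 6, 5, 1, 6, 5, 6, 1, 5, 6, 5], [5, 1, 6, 5, 6, 1, 5, 6, 5, 1], [5, 1, 6, 1], [1, 6, 1, 5, 6, 1, 5, 6, 5], [5, 6, 5, 1, 6], [1, 6, 1, 5, 6, 5, 1, 6, 5], [1, 5, 6, 5, 1, 6, 1, 5, 1], [6, 5, 1, 6], [1, 6, 5, 6, 1, 5, 6, 5, 1], [6, 5, 1, 6, 5,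 6, 1, 5, 6, 5], [1, 5, 6, 1], [1, 5, 1, 6, 5, 6, 1, 5, 6, 5, 1, 6], [6, 1, 5, 1, 6, 1, 5, 6, 5], [1, 5, 1, 6, 5, 6, 1, 5, 6, 5, 1], [1, 5, 1, 6, 1], [6, 1, 5, 6, 1, 5, 6, 5], [1, 5, 6, 5, 6, 1, 5, 6, 5, 1, 6], [6, 5, 6, 1, 5, 6, 1], [1, 6, 5, 1, 6, 1, 5, 1], [5, 6, 5, 6, 1, 5, 6, 1], [1, 5, 6, 5, 6, 1, 5, 6, 5, 1], [1, 6, 5, 1, 6, 1, 5, 1, 6], [1, 6, 5, 1], [5, 6, 1, 5, 6, 5, 1, 6, 5], [6, 5, 6, 1, 5, 6, 5, 1, 6], [6, 1, 5, 6, 5, 1, 6, 5], [1, 5, 6, 5, 1, 6], [5, 6, 5, 1, 6, 1, 5, 1], [5, 6, 5, 6, 1, 5, 6, 5, 1, 6], [6, 5, 1, 6, 1, 5, 1], [1, 6, 5, 6, 1, 5, 6, 1], [5, 1, 6, 5, 6, 1, 5, 6, 1], [5, 1, 6, 5, 1], [1, 5, 1, 6, 5, 1, 6], [6, 1, 5, 6, 5, 1, 6,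 5, 6], [1, 5, 6, 5, 1], [5, 6, 5, 1, 6, 1, 5, 1, 6], [1, 6, 5, 1, 6], [6, 5, 6, 1, 5, 6, 5, 1], [5, 6, 1, 5, 6, 5, 1, 6, 5, 6], [5, 6, 5, 6, 1, 5, 6, 5, 1], [6, 5, 1, 6, 1, 5, 1, 6], [1, 5, 6, 5, 6, 1, 5, 6, 1], [1, 5, 1, 6, 5, 6, 1, 5, 6, 1], [1, 5, 1, 6, 5, 1], [5, 1, 6, 5, 1, 6], [1, 6, 1, 5, 6, 5], [5, 6, 5, 1, 6, 5, 6, 1], [5, 1, 6, 1, 5, 6, 1, 5, 1], [5, 1, 6, 1, 5, 6, 5], [5, 6, 1, 5, 1, 6, 5, 6, 1, 5], [1, 6, 1, 5, 6, 1], [5, 6, 1, 5, 1, 6, 5, 6], [1, 6, 1, 5, 6, 1, 5, 1], [5, 1, 6, 1, 5, 6, 1], [6, 1, 5, 1, 6, 5, 6], [6, 5, 1, 6, 5, 6, 1], [6, 1, 5, 1, 6, 5, 6, 1, 5], [6, 1, 5, 6, 5], [1, 5, 6, 5, 1, 6, 5, 6, 1], [5, 6, 5, 1, 6, 5, 1, 6, 1], [5,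 6, 1, 5, 1, 6, 5, 6, 1, 5, 6], [5, 6, 1, 5, 6, 5], [1, 6, 1, 5, 1, 6, 1], [6, 1, 5, 1, 6, 5], [6, 1, 5, 1, 6, 5, 6, 1, 5, 6], [6, 5, 1, 6, 5, 1, 6, 1], [5, 6, 1, 5, 1, 6, 5], [1, 6, 1, 5, 6, 1, 5, 1, 6], [5, 1, 6, 1, 5, 1, 6, 1], [1, 5, 1, 6, 1, 5, 6, 5], [1, 5, 6, 1, 5, 1, 6, 5, 6, 1, 5], [6, 1, 5, 6, 1], [1, 5, 6, 1, 5, 6, 5], [1, 5, 6, 1, 5, 1, 6, 5, 6, 1, 5, 6], [6, 1, 5, 1, 6, 1], [1, 6, 1, 5, 6, 1, 5, 1, 6, 5, 1, 6], [1, 6, 1, 5, 1, 6, 1, 5, 1], [5, 6, 1, 5, 6, 1], [1, 6, 1, 5, 6, 1, 5, 1, 6, 5, 1], [5, 6, 1, 5, 1, 6, 1], [1, 6, 1, 5, 1, 6, 1, 5, 1, 6], [1, 5, 6, 1, 5, 1, 6, 5, 6], [6, 1, 5, 6, 1, 5, 1], [1, 5, 1, 6, 1, 5, 6, 1], [1, 6, 1, 5, 1, 6,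 5], [5, 6, 1, 5, 6, 1, 5, 1], [1, 6, 1, 5, 1, 6, 5, 6, 1, 5, 6], [6, 1, 5, 6, 1, 5, 1, 6, 5, 1, 6], [1, 5, 6, 1, 5, 6, 1], [6, 1, 5, 1, 6, 1, 5, 1], [5, 6, 1, 5, 1, 6, 1, 5, 1], [5, 1, 6, 1, 5, 1, 6, 5], [1, 5, 1, 6, 1, 5, 1, 6, 5, 6], [1, 6, 1, 5, 1, 6, 5, 6], [1, 6, 5, 1, 6, 5, 6, 1], [1, 6, 1, 5, 1, 6, 5, 6, 1, 5], [1, 5, 6, 1, 5, 1, 6, 5], [6, 1, 5, 6, 1, 5, 1, 6], [1, 5, 1, 6, 1, 5, 1, 6, 1], [6, 1, 5, 6, 1, 5, 1, 6, 5, 1], [1, 5, 6, 1, 5, 1, 6, 1], [6, 1, 5, 1, 6, 1, 5, 1, 6], [1, 5, 6, 1, 5, 1, 6, 1, 5, 1], [5, 1, 6, 1, 5, 1, 6, 5, 6], [1, 5, 1, 6, 1, 5, 1, 6, 5], [6, 1, 5], [1, 5, 1, 6, 1, 5, 6, 5, 1, 6], [1, 5, 6, 5, 1, 6, 5, 6, 1, 5, 6], [6, 1,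 5, 1], [1, 5, 6, 1, 5, 6, 5, 1, 6], [1, 6, 5, 6, 1, 5, 6, 5, 1, 6, 5], [5, 6, 1, 5, 1], [1, 6, 1, 5, 6, 1, 5, 1, 6, 5, 6], [1, 6, 1, 5, 1, 6, 1, 5, 6, 1], [1, 6, 1, 5, 6, 1, 5, 1, 6, 5, 6, 1], [5, 6, 1, 5], [1, 6, 1, 5, 1, 6, 1, 5, 6], [1, 6, 1, 5], [5, 6, 5, 1, 6, 5, 6, 1, 5, 6], [5, 1, 6, 1, 5, 6, 5, 1, 6], [1, 6, 1, 5, 6, 5, 1, 6], [5, 6, 5, 1, 6, 5], [1, 5, 6, 5, 1, 6, 5, 1], [6, 5, 1, 6, 5], [6, 5, 1, 6, 5, 6, 1, 5, 6], [6, 1, 5, 1, 6, 5, 1, 6, 1], [5, 6, 1, 5, 1, 6, 5, 1, 6, 1], [5, 1, 6, 1, 5], [1, 6, 1, 5, 6, 1, 5, 6], [1, 6, 1, 5, 1], [5, 6, 1, 5, 6, 5, 1, 6], [6, 5, 6, 1, 5, 6, 5, 1, 6, 5], [6, 1, 5, 6, 5, 1, 6], [1, 5, 6, 5, 1, 6, 5], [5, 6,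 5, 1, 6, 5, 1], [5, 6, 1, 5, 1, 6, 5, 1, 6], [5, 1, 6, 1, 5, 1], [1, 5, 1, 6, 5, 1, 6, 5], [6, 5, 1, 6, 5, 1], [6, 5, 1, 6, 5, 6, 1, 5, 6, 1], [6, 1, 5, 1, 6, 5, 1, 6], [6, 1, 5, 6, 1, 5, 1, 6, 5, 6], [1, 5, 6, 1, 5, 1], [6, 1, 5, 1, 6, 1, 5, 6, 1], [1, 6, 5, 1, 6, 5, 6, 1, 5, 6], [1, 6, 5, 1, 6, 5], [6, 5, 6, 1, 5, 6, 1, 5, 1], [1, 5, 6, 1, 5, 1, 6, 5, 1, 6], [1, 5, 1, 6, 1, 5, 1], [5, 1, 6, 5, 1, 6, 5], [6, 5, 1, 6, 1, 5, 1, 6, 5], [5, 6, 5, 6, 1, 5, 6, 1, 5, 1], [1, 5, 6, 5, 6, 1, 5, 6, 1, 5], [1, 5, 6, 1, 5], [6, 1, 5, 6, 1, 5, 1, 6, 5, 6, 1], [6, 1, 5, 1, 6, 1, 5, 6], [1, 5, 6, 1, 5, 1, 6, 5, 1, 6, 1], [1, 5, 1, 6, 1, 5], [6, 1, 5, 6, 1, 5, 6], [1,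 6, 5, 1, 6, 5, 1], [6, 5, 6, 1, 5, 6, 1, 5], [1, 6, 5, 1, 6, 5, 6, 1, 5, 6, 1], [5, 6, 5, 6, 1, 5, 6, 1, 5], [5, 6, 1, 5, 1, 6, 1, 5, 6], [1, 5, 6, 5, 6, 1, 5, 6, 1, 5, 1], [1, 6, 1, 5, 6], [5, 1, 6, 1, 5, 6, 5, 1], [5, 6, 5, 1, 6, 5, 6, 1, 5], [5, 6, 5, 1, 6, 5, 6], [1, 6, 1, 5, 6, 5, 1], [5, 1, 6, 1, 5, 6, 1, 5], [6, 5, 1, 6, 5, 6], [6, 1, 5, 1, 6, 5, 6, 1], [6, 5, 1, 6, 5, 6, 1, 5], [5, 6, 1, 5, 1, 6, 5, 6, 1], [1, 6, 1, 5, 6, 1, 5], [5, 1, 6, 1, 5, 6], [6, 1, 5, 6], [1, 5, 1, 6, 1, 5, 6, 5, 1], [1, 5, 6, 5, 1, 6, 5, 6, 1, 5], [6, 1, 5, 1, 6], [1, 5, 6, 1, 5, 6, 5, 1], [6, 1, 5, 1, 6, 5, 6, 1, 5, 6, 5], [5, 6, 1, 5, 1, 6], [1, 6, 1, 5, 6, 1, 5, 1, 6,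 5], [5, 1, 6, 1, 5, 1, 6, 1, 5], [5, 6, 1, 5, 1, 6, 5, 6, 1, 5, 6, 5], [5, 6, 1, 5, 6], [1, 6, 1, 5, 1, 6, 1, 5], [6, 1, 5, 6, 5, 1], [1, 5, 6, 5, 1, 6, 5, 6], [5, 6, 5, 1, 6, 5, 1, 6], [5, 6, 1, 5, 6, 5, 1], [6, 5, 6, 1, 5, 6, 5, 1, 6, 5, 6], [1, 6, 1, 5, 1, 6], [5, 6, 1, 5, 1, 6, 5, 1], [1, 5, 1, 6, 5, 1, 6, 5, 6], [5, 1, 6, 1, 5, 1, 6], [6, 1, 5, 1, 6, 5, 6, 1, 5, 6, 1], [6, 5, 1, 6, 5, 1, 6], [6, 1, 5, 1, 6, 5, 1], [1, 6, 5, 1, 6, 5, 6], [1, 6, 1, 5, 1, 6, 5, 6, 1], [1, 6, 5, 1, 6, 5, 6, 1, 5], [6, 1, 5, 6, 1, 5, 1, 6, 5], [1, 5, 6, 1, 5, 1, 6], [1, 5, 1, 6, 1, 5, 1, 6, 1, 5], [1, 5, 6, 1, 5, 1, 6, 5, 1], [5, 1, 6, 5, 1, 6, 5, 6], [1, 5, 1, 6, 1, 5,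 1, 6], [1, 5, 6, 1, 5, 1, 6, 1, 5], [5, 1, 6, 1, 5, 1, 6, 5, 6, 1], [1, 5, 1, 6, 1, 5, 1, 6, 5, 1], [1, 5, 1, 6, 1, 5, 6], [1, 5, 6, 1, 5, 1, 6, 5, 6, 1], [6, 1, 5, 6, 1, 5], [6, 1, 5, 6, 1, 5, 1, 6, 5, 1, 6, 1], [1, 5, 6, 1, 5, 6], [6, 1, 5, 1, 6, 1, 5], [1, 6, 1, 5, 1, 6, 5, 1], [1, 6, 1, 5, 1, 6, 5, 6, 1, 5, 6, 1], [5, 6, 1, 5, 6, 1, 5], [5, 6, 1, 5, 1, 6, 1, 5], [5, 1, 6, 1, 5, 1, 6, 5, 1], [1, 5, 1, 6, 1, 5, 1, 6, 5, 6, 1]]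

end CfsgLib.Coset.Suz.Schur
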