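import Cfsg.Agent.Coset.Suz.Schur.Odd
import Cfsg.Agent.Coset.Suz.Schur.BfgWords
import Cfsg.Agent.Coset.Suz.Schur.TB

/-!
In a stem extension with kernel a 3-group the relator on `b, f, g` has order dividing three.
-/

set_option autoImplicit false
set_option maxRecDepth 100000
set_option Elab.async false

namespace CfsgLib.Coset.Suz.Schur

open CfsgLib.Coset

section Kernel

/-- The relators on `b, f, g`. -/
def RB : List (List Nat) :=
  (pairs.filterMap fun p =>
    if [1, 5, 6].contains p.1 && [1, 5, 6].contains p.2.1 then some (pairW p) else none) ++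
    cen [1, 5, 6] rB

/-- The key of a word: the images of four points. -/
noncomputable def keyW (w : List Nat) : Nat :=
  ((follow (tget Top.Tb) 0 w * 2048 + follow (tget Top.Tb) 1 w) * 2048 +
    follow (tget Top.Tb) 2 w) * 2048 + follow (tget Top.Tb) 160 w

/-- Strictly increasing. -/
noncomputable def incr (l : List Nat) : Bool :=
  allList (fun p : Nat × Nat => Nat.blt p.1 p.2) (l.zip l.tail)

/-- The keys. -/
noncomputable def keys : List Nat := bfgWords.map keyW

end Kernel

theorem keys_incr : incr keys = true := by decide +kernel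

theorem bfgWords_len : bfgWords.length = 360 := by decide +kernel

theorem bfgWords_letters : ∀ w ∈ bfgWords, ∀ l ∈ w, l ∈ [1, 5, 6] := by decide +kernel

theorem cB : checkLevel RB 7 [1, 5, 6] [] TB.lrels TB.subs = true := by decide +kernel

theorem incr_sorted : ∀ l : List Nat, incr l = true → List.Pairwise (· < ·) l := by
  intro l h
  induction l with
  | nil => exact List.Pairwise.nil
  | cons a t ih =>
    have h' := allList_iff.mp h
    have hchain : List.IsChain (· < ·) (a :: t) := by
      clear ih
      induction t generalizing a with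
      | nil => exact List.IsChain.singleton a
      | cons b t iht =>
        have hh := fun p hp => h' p (List.mem_cons_of_mem _ hp)
        refine List.IsChain.cons_cons ?_ (iht b (allList_iff.mpr hh) hh)
        have := h' (a, b) (List.mem_cons_self ..)
        exact Nat.le_of_ble_eq_true this
    exact List.isChain_iff_pairwise.mp hchain

theorem bfg_card : 360 ≤ Nat.card (genBy Lg [1, 5, 6]) := by
  have := card_le.1
  have hnd : keys.Nodup := (incr_sorted _ keys_incr).imp fun h => Nat.ne_of_lt h
  let f : Fin bfgWords.length → genBy Lg [1, 5, 6] := fun i =>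
    ⟨ev Lg (bfgWords.get i), ev_mem_genBy _ (bfgWords_letters _ (List.get_mem _ i))⟩
  have hf : Function.Injective f := by
    intro i j h
    have he : ev Lg (bfgWords.get i) = ev Lg (bfgWords.get j) := congrArg Subtype.val h
    have h7 : ∀ w ∈ bfgWords, ∀ l ∈ w, l < (Lg).length := fun w hw l hl => by
      have := bfgWords_letters w hw l hl
      simp only [List.mem_cons, List.not_mem_nil, or_false] at this
      rw [len_Lg]; omega
    have hk : keyW (bfgWords.get i) = keyW (bfgWords.get j) := by
      have key : ∀ b : Fin 1782, follow (tget Top.Tb) b (bfgWords.get i) =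
          follow (tget Top.Tb) b (bfgWords.get j) := fun b => by
        rw [← matches_ρ.follow_eq _ b (h7 _ (List.get_mem _ i)),
          ← matches_ρ.follow_eq _ b (h7 _ (List.get_mem _ j)), he]
      have k0 := key ⟨0, by norm_num⟩
      have k1 := key ⟨1, by norm_num⟩
      have k2 := key ⟨2, by norm_num⟩
      have k3 := key ⟨160, by norm_num⟩
      simp only [keyW, k0, k1, k2, k3]
    refine Fin.ext ?_
    refine (List.Nodup.getElem_inj_iff hnd (hi := by simp [keys]) (hj := by simp [keys])).mp ?_
    simpa [keys] using hk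
  have h := Nat.card_le_card_of_injective f hf
  rwa [Nat.card_fin, bfgWords_len] at h

variable {Γ : Type} [Group Γ] {σ : Γ →* Cfsg.Spor.Suz}

theorem rB_cube (hs : Cfsg.IsStemExtension σ) {k : ℕ}
    (he : ∀ z : Γ, σ z = 1 → z ^ 3 ^ k = 1) {L : List Γ} (hL : IsLift σ L) : ev L rB ^ 3 = 1 := by
  have := card_le.1
  have hn : Odd (3 ^ k) := Odd.pow ⟨1, rfl⟩
  have hR : ∀ w ∈ RB, ev L w = 1 := by
    intro w hw
    rcases List.mem_append.mp hw with hw | hw
    · obtain ⟨p, hp, hp'⟩ := List.mem_filterMap.mp hw
      split at hp'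
      · cases hp'; exact pair_one hs hn he hL p hp
      · cases hp'
    · exact cen_one hs hL (ev_rels _ (by decide +kernel)) _ w hw
  obtain ⟨hf, hc⟩ := step hL hR (k := 3) rfl (by norm_num) cB TB.hR TB.hdefs TB.hsteps TB.htable
    card_genBy_nil
  have hzσ : σ (ev L rB) = 1 := by rw [map_ev hL.img]; exact ev_rels _ (by decide +kernel)
  let f : genBy L [1, 5, 6] →* Cfsg.Spor.Suz := σ.comp (genBy L [1, 5, 6]).subtype
  have hrange : f.range = genBy Lg [1, 5, 6] := by
    rw [← map_genBy hL.img, MonoidHom.range_comp, Subgroup.range_subtype]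
  have hmul : Nat.card f.ker * Nat.card (genBy Lg [1, 5, 6]) = Nat.card (genBy L [1, 5, 6]) := by
    rw [← hrange, ← Subgroup.index_ker, f.ker.card_mul_index]
  let x : genBy L [1, 5, 6] := ⟨ev L rB, ev_mem_genBy _ (by decide +kernel)⟩
  have hx : x ∈ f.ker := hzσ
  have hker : Nat.card f.ker ≤ 6 := by
    have h1 := Nat.mul_le_mul_left (Nat.card f.ker) bfg_card
    omega
  have hdvd : orderOf x ∣ 3 ^ k := orderOf_dvd_of_pow_eq_one (Subtype.ext (he _ hzσ))
  have hle : orderOf x ≤ 6 := by
    have := Nat.le_of_dvd Nat.card_pos (orderOf_dvd_natCard (⟨x, hx⟩ : f.ker))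
    rw [Subgroup.orderOf_mk] at this
    omega
  obtain ⟨j, -, hj⟩ := (Nat.dvd_prime_pow Nat.prime_three).mp hdvd
  have hj1 : j ≤ 1 := by
    by_contra hcon
    have : 3 ^ 2 ≤ 3 ^ j := Nat.pow_le_pow_right (by norm_num) (by omega)
    omega
  have : x ^ 3 = 1 := by
    rw [← pow_one 3]
    exact orderOf_dvd_iff_pow_eq_one.mp (hj ▸ pow_dvd_pow 3 hj1)
  exact congrArg Subtype.val this

end CfsgLib.Coset.Suz.Schur
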