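import Cfsg.Agent.Coset.Suz.Schur.Two
import Cfsg.Agent.Coset.Suz.Schur.Bfg
import Mathlib.GroupTheory.SpecificGroups.ZGroup

/-!
The kernel of a stem extension of `Cfsg.Spor.Suz` is cyclic of order dividing six.
-/

set_option autoImplicit false
set_option maxRecDepth 100000
set_option Elab.async false

namespace CfsgLib.Coset.Suz.Schur

open CfsgLib.Coset

variable {Γ : Type} [Group Γ] {σ : Γ →* Cfsg.Spor.Suz}

theorem normal_of_le_ker (hs : Cfsg.IsStemExtension σ) {N : Subgroup Γ} (hle : N ≤ σ.ker) :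
    N.Normal :=
  ⟨fun z hz g => by
    rwa [central hs (MonoidHom.mem_ker.mp (hle hz)) g, mul_inv_cancel_right]⟩

theorem quot_stem (hs : Cfsg.IsStemExtension σ) {N : Subgroup Γ} [N.Normal] (hle : N ≤ σ.ker) :
    Cfsg.IsStemExtension (QuotientGroup.lift N σ hle) ∧
      (QuotientGroup.lift N σ hle).ker = σ.ker.map (QuotientGroup.mk' N) := by
  have hker := QuotientGroup.ker_lift N σ hle
  refine ⟨⟨fun x => ?_, ?_, ?_⟩, hker⟩
  · obtain ⟨y, rfl⟩ := hs.1 x
    exact ⟨QuotientGroup.mk y, rfl⟩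
  · rw [hker]
    rintro _ ⟨z, hz, rfl⟩
    refine Subgroup.mem_center_iff.mpr fun y => ?_
    obtain ⟨y, rfl⟩ := QuotientGroup.mk'_surjective N y
    rw [← map_mul, ← map_mul, central hs (MonoidHom.mem_ker.mp hz) y]
  · rw [hker]
    refine (Subgroup.map_mono hs.2.2).trans ?_
    rw [_root_.commutator_def, Subgroup.map_commutator, _root_.commutator_def]
    exact Subgroup.commutator_mono le_top le_top

/-- The powers of kernel elements, as a subgroup. -/
def powKer (hs : Cfsg.IsStemExtension σ) (p : ℕ) : Subgroup Γ where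
  carrier := {z | ∃ w, σ w = 1 ∧ z = w ^ p}
  one_mem' := ⟨1, map_one σ, (one_pow p).symm⟩
  mul_mem' := by
    rintro _ _ ⟨v, hv, rfl⟩ ⟨w, hw, rfl⟩
    exact ⟨v * w, by rw [map_mul, hv, hw, one_mul],
      ((show Commute v w from central hs hw v).mul_pow p).symm⟩
  inv_mem' := by
    rintro _ ⟨v, hv, rfl⟩
    exact ⟨v⁻¹, by rw [map_inv, hv, inv_one], (inv_pow v p).symm⟩

theorem powKer_le (hs : Cfsg.IsStemExtension σ) (p : ℕ) : powKer hs p ≤ σ.ker := by
  rintro _ ⟨w, hw, rfl⟩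
  exact MonoidHom.mem_ker.mpr (by rw [map_pow, hw, one_pow])

/-- A prime for which all kernel elements are powers does not divide the order of the kernel. -/
theorem not_dvd_of_pow [Finite Γ] (hs : Cfsg.IsStemExtension σ) {p : ℕ} (hp : p.Prime)
    (h : ∀ z, σ z = 1 → ∃ w, σ w = 1 ∧ z = w ^ p) : ¬ p ∣ Nat.card σ.ker := by
  intro hdvd
  haveI := Fact.mk hp
  obtain ⟨z, hz⟩ := exists_prime_orderOf_dvd_card' p hdvd
  let f : σ.ker → σ.ker := fun x => x ^ p
  have hsur : Function.Surjective f := by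
    rintro ⟨y, hy⟩
    obtain ⟨w, hw, rfl⟩ := h y (MonoidHom.mem_ker.mp hy)
    exact ⟨⟨w, MonoidHom.mem_ker.mpr hw⟩, Subtype.ext rfl⟩
  have hinj := Finite.injective_iff_surjective.mpr hsur
  have : z = 1 := hinj (show z ^ p = 1 ^ p by rw [one_pow, ← hz, pow_orderOf_eq_one])
  rw [this, orderOf_one] at hz
  exact hp.one_lt.ne hz

theorem isLift_map {Δ : Type} [Group Δ] (f : Γ →* Δ) {τ : Δ →* Cfsg.Spor.Suz}
    (hτ : ∀ x, τ (f x) = σ x) {L : List Γ} (hL : IsLift σ L) :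
    IsLift τ (L.map f) ∧ ∀ w, ev (L.map f) w = f (ev L w) := by
  have hfl : ∀ l, fl (L.map f) l = f (fl L l) := by
    intro l
    rcases Nat.lt_or_ge l L.length with hl | hl
    · simp [fl, List.getD_eq_getElem?_getD, List.getElem?_eq_getElem hl]
    · rw [fl_of_le _ hl, fl_of_le _ (by simpa using hl), map_one]
  refine ⟨⟨by simp [hL.len], fun l => by rw [hfl, hτ, hL.img],
    fun x => by rw [hfl, ← map_mul, hL.sq, map_one]⟩, fun w => ?_⟩
  induction w with
  | nil => simp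
  | cons l w ih => rw [ev_cons, ev_cons, map_mul, hfl, ih]

/-- Exponent five, or a prime whose square does not divide the order: the kernel is trivial. -/
theorem ker_eq_bot_prime [Finite Γ] (hs : Cfsg.IsStemExtension σ) {p : ℕ} (hp : p.Prime)
    (h2 : p ≠ 2) (h3 : p ≠ 3) (he : ∀ z : Γ, σ z = 1 → z ^ p = 1) : σ.ker = ⊥ := by
  by_cases h5 : p = 5
  · subst h5
    obtain ⟨L, hL⟩ := exists_lift hs ⟨2, rfl⟩ he
    exact ker_eq_bot_odd hs ⟨2, rfl⟩ he hL (rB_one_five hs he hL)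
  have hexp : Monoid.exponent σ.ker ∣ p :=
    Monoid.exponent_dvd_of_forall_pow_eq_one fun z => Subtype.ext (he z z.2)
  rcases (Nat.dvd_prime hp).mp hexp with h | h
  · have hsub := Monoid.exp_eq_one_iff.mp h
    exact (Subgroup.eq_bot_iff_forall _).mpr fun x hx =>
      congrArg Subtype.val (@Subsingleton.elim _ hsub ⟨x, hx⟩ 1)
  exfalso
  have h1 := CfsgLib.Schur.exponent_sq_dvd_index σ.ker hs.2.1 hs.2.2
  rw [h, Subgroup.index_ker, MonoidHom.range_eq_top.mpr hs.1, Subgroup.card_top,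
    card_and_injective.1] at h1
  have hd : p ∣ 2 ^ 13 * (3 ^ 7 * (5 ^ 2 * (7 * (11 * 13)))) :=
    (dvd_pow_self p two_ne_zero).trans (h1.trans (by norm_num))
  have hq : ∀ {q k : ℕ}, q.Prime → p ∣ q ^ k → p = q := fun hq hd =>
    (Nat.prime_dvd_prime_iff_eq hp hq).mp (hp.dvd_of_dvd_pow hd)
  rcases hp.dvd_mul.mp hd with hd | hd
  · exact h2 (hq Nat.prime_two hd)
  rcases hp.dvd_mul.mp hd with hd | hd
  · exact h3 (hq Nat.prime_three hd)
  rcases hp.dvd_mul.mp hd with hd | hd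
  · exact h5 (hq (by norm_num) hd)
  rcases hp.dvd_mul.mp hd with hd | hd
  · rw [(Nat.prime_dvd_prime_iff_eq hp (by norm_num)).mp hd] at h1; norm_num at h1
  rcases hp.dvd_mul.mp hd with hd | hd
  · rw [(Nat.prime_dvd_prime_iff_eq hp (by norm_num)).mp hd] at h1; norm_num at h1
  · rw [(Nat.prime_dvd_prime_iff_eq hp (by norm_num)).mp hd] at h1; norm_num at h1

/-- A kernel of odd order has order dividing three. -/
theorem odd_ker_dvd [Finite Γ] (hs : Cfsg.IsStemExtension σ) (hodd : ¬ 2 ∣ Nat.card σ.ker) :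
    Nat.card σ.ker ∣ 3 := by
  have hall : ∀ p, p.Prime → p ∣ Nat.card σ.ker → p = 3 := by
    intro p hp hd
    by_contra h3
    have h2 : p ≠ 2 := fun e => hodd (e ▸ hd)
    haveI := normal_of_le_ker hs (powKer_le hs p)
    obtain ⟨hst, hker⟩ := quot_stem hs (powKer_le hs p)
    have hbot := ker_eq_bot_prime hst hp h2 h3 fun z hz => by
      obtain ⟨w, hw, rfl⟩ := hker ▸ MonoidHom.mem_ker.mpr hz
      rw [← map_pow]
      exact (QuotientGroup.eq_one_iff _).mpr ⟨w, MonoidHom.mem_ker.mp hw, rfl⟩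
    refine not_dvd_of_pow hs hp (fun z hz => ?_) hd
    have hm : QuotientGroup.mk' (powKer hs p) z ∈ (QuotientGroup.lift _ σ (powKer_le hs p)).ker :=
      hker ▸ ⟨z, MonoidHom.mem_ker.mpr hz, rfl⟩
    rw [hbot, Subgroup.mem_bot] at hm
    exact (QuotientGroup.eq_one_iff _).mp hm
  set k := (Nat.card σ.ker).primeFactorsList.length
  have hk : Nat.card σ.ker = 3 ^ k :=
    Nat.eq_prime_pow_of_unique_prime_dvd Nat.card_pos.ne' (fun hd h => hall _ hd h)
  have he : ∀ z : Γ, σ z = 1 → z ^ 3 ^ k = 1 := fun z hz => by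
    have h : (⟨z, MonoidHom.mem_ker.mpr hz⟩ : σ.ker) ^ Nat.card σ.ker = 1 := pow_card_eq_one'
    rw [hk] at h
    exact congrArg Subtype.val h
  have hn : Odd (3 ^ k) := Odd.pow ⟨1, rfl⟩
  obtain ⟨L, hL⟩ := exists_lift hs hn he
  set v := ev L rB with hv
  have hvσ : v ∈ σ.ker := by
    rw [MonoidHom.mem_ker, hv, map_ev hL.img]; exact ev_rels _ (by decide +kernel)
  have hle : Subgroup.zpowers v ≤ σ.ker := Subgroup.zpowers_le.mpr hvσ
  haveI := normal_of_le_ker hs hle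
  obtain ⟨hst, hker⟩ := quot_stem hs hle
  obtain ⟨hL', hev⟩ := isLift_map (QuotientGroup.mk' (Subgroup.zpowers v))
    (τ := QuotientGroup.lift _ σ hle) (fun _ => rfl) hL
  have hbot := ker_eq_bot_odd hst hn (fun z hz => by
    obtain ⟨w, hw, rfl⟩ := hker ▸ MonoidHom.mem_ker.mpr hz
    rw [← map_pow, he w (MonoidHom.mem_ker.mp hw), map_one]) hL' (by
    rw [hev]; exact (QuotientGroup.eq_one_iff _).mpr (Subgroup.mem_zpowers v))
  have heq : σ.ker = Subgroup.zpowers v := by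
    refine le_antisymm (fun z hz => ?_) hle
    have hm : QuotientGroup.mk' (Subgroup.zpowers v) z ∈ (QuotientGroup.lift _ σ hle).ker :=
      hker ▸ ⟨z, hz, rfl⟩
    rw [hbot, Subgroup.mem_bot] at hm
    exact (QuotientGroup.eq_one_iff _).mp hm
  rw [heq, Nat.card_zpowers]
  exact orderOf_dvd_of_pow_eq_one (rB_cube hs he hL)

/-- The kernel of a stem extension has order dividing six. -/
theorem card_ker_dvd [Finite Γ] (hs : Cfsg.IsStemExtension σ) : Nat.card σ.ker ∣ 6 := by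
  have := card_le.1
  obtain ⟨X0, hX0⟩ := hs.1 (fl Lg 3)
  obtain ⟨Y0, hY0⟩ := hs.1 (ev Lg (cw qy 3))
  set c := X0 * Y0 * X0⁻¹ * Y0⁻¹ with hc
  have hxy : fl Lg 3 * ev Lg (cw qy 3) = ev Lg (cw qy 3) * fl Lg 3 := by
    have h := sameW_eq pair_ok.2
    simpa [ev_append] using h
  have hcσ : σ c = 1 := by
    rw [hc, map_mul, map_mul, map_mul, map_inv, map_inv, hX0, hY0, hxy, mul_inv_cancel_right,
      mul_inv_cancel]
  have hcc := central hs hcσ
  have hc2 : c * c = 1 := by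
    have hy : σ (Y0 * Y0) = 1 := by
      rw [map_mul, hY0, ev_cw sq_all, show ev Lg qy * fl Lg 3 * (ev Lg qy)⁻¹ *
        (ev Lg qy * fl Lg 3 * (ev Lg qy)⁻¹) = ev Lg qy * (fl Lg 3 * fl Lg 3) * (ev Lg qy)⁻¹
        by group, sq_all, mul_one, mul_inv_cancel]
    have e : X0 * Y0 * X0⁻¹ = c * Y0 := by rw [hc]; group
    have h1 : c * Y0 * (c * Y0) = Y0 * Y0 := by
      rw [← e, show X0 * Y0 * X0⁻¹ * (X0 * Y0 * X0⁻¹) = X0 * (Y0 * Y0) * X0⁻¹ by group,
        central hs hy X0, mul_inv_cancel_right]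
    have h1' : c * c * (Y0 * Y0) = Y0 * Y0 := by
      calc c * c * (Y0 * Y0) = c * (c * Y0) * Y0 := by simp only [mul_assoc]
        _ = c * (Y0 * c) * Y0 := by rw [hcc Y0]
        _ = Y0 * Y0 := by rw [← h1]; simp only [mul_assoc]
    exact mul_eq_right.mp h1'
  have hcK : Subgroup.zpowers c ≤ σ.ker := Subgroup.zpowers_le.mpr hcσ
  haveI := normal_of_le_ker hs hcK
  obtain ⟨hst, hker⟩ := quot_stem hs hcK
  let τ : Γ ⧸ Subgroup.zpowers c →* Cfsg.Spor.Suz := QuotientGroup.lift _ σ hcK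
  have hodd : ¬ 2 ∣ Nat.card τ.ker := by
    refine not_dvd_of_pow hst Nat.prime_two fun z hz => ?_
    haveI := normal_of_le_ker hst (powKer_le hst 2)
    obtain ⟨hst2, hker2⟩ := quot_stem hst (powKer_le hst 2)
    have h2 : Two (QuotientGroup.lift _ τ (powKer_le hst 2)) := fun y hy => by
      obtain ⟨w, hw, rfl⟩ := hker2 ▸ MonoidHom.mem_ker.mpr hy
      rw [← map_mul]
      exact (QuotientGroup.eq_one_iff _).mpr ⟨w, MonoidHom.mem_ker.mp hw, (pow_two w).symm⟩
    have hp : PairComm (QuotientGroup.lift _ τ (powKer_le hst 2)) := by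
      intro X Y hX hY
      obtain ⟨X1, rfl⟩ := QuotientGroup.mk'_surjective _ X
      obtain ⟨Y1, rfl⟩ := QuotientGroup.mk'_surjective _ Y
      obtain ⟨X2, rfl⟩ := QuotientGroup.mk'_surjective _ X1
      obtain ⟨Y2, rfl⟩ := QuotientGroup.mk'_surjective _ Y1
      change σ X2 = fl Lg 3 at hX
      change σ Y2 = ev Lg (cw qy 3) at hY
      rw [← map_mul, ← map_mul, ← map_mul, ← map_mul]
      congr 1
      refine (QuotientGroup.eq.mpr ?_)
      have hk : σ (X0⁻¹ * X2) = 1 := by rw [map_mul, map_inv, hX, hX0, inv_mul_cancel]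
      have hl : σ (Y0⁻¹ * Y2) = 1 := by rw [map_mul, map_inv, hY, hY0, inv_mul_cancel]
      have hcom : X2 * Y2 = c * (Y2 * X2) := by
        have ck := central hs hk
        have cl := central hs hl
        calc X2 * Y2 = X0 * (X0⁻¹ * X2) * (Y0 * (Y0⁻¹ * Y2)) := by group
          _ = X0 * Y0 * ((X0⁻¹ * X2) * (Y0⁻¹ * Y2)) := by
              rw [mul_assoc X0, ← mul_assoc (X0⁻¹ * X2) Y0, ← ck Y0]; simp only [mul_assoc]
          _ = c * (Y0 * X0) * ((Y0⁻¹ * Y2) * (X0⁻¹ * X2)) := by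
              rw [cl (X0⁻¹ * X2), hc]; group
          _ = c * (Y0 * (Y0⁻¹ * Y2) * (X0 * (X0⁻¹ * X2))) := by
              rw [mul_assoc Y0 (Y0⁻¹ * Y2), ← mul_assoc (Y0⁻¹ * Y2) X0, ← cl X0]
              simp only [mul_assoc]
          _ = c * (Y2 * X2) := by group
      rw [hcom, mul_inv_rev, mul_assoc, ← central hs (z := c⁻¹) (by rw [map_inv, hcσ, inv_one]),
        inv_mul_cancel_left]
      exact inv_mem (Subgroup.mem_zpowers c)
    have hbot := ker_eq_bot_two hst2 h2 hp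
    have hm : QuotientGroup.mk' (powKer hst 2) z ∈
        (QuotientGroup.lift _ τ (powKer_le hst 2)).ker :=
      hker2 ▸ ⟨z, MonoidHom.mem_ker.mpr hz, rfl⟩
    rw [hbot, Subgroup.mem_bot] at hm
    exact (QuotientGroup.eq_one_iff _).mp hm
  have h3 := odd_ker_dvd hst hodd
  have hcard : Nat.card σ.ker = Nat.card τ.ker * Nat.card (Subgroup.zpowers c) := by
    have h1 : Nat.card τ.ker * Nat.card Cfsg.Spor.Suz = Nat.card (Γ ⧸ Subgroup.zpowers c) := by
      rw [← τ.ker.card_mul_index, Subgroup.index_ker, MonoidHom.range_eq_top.mpr hst.1,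
        Subgroup.card_top]
    have h2 : Nat.card σ.ker * Nat.card Cfsg.Spor.Suz = Nat.card Γ := by
      rw [← σ.ker.card_mul_index, Subgroup.index_ker, MonoidHom.range_eq_top.mpr hs.1,
        Subgroup.card_top]
    refine Nat.eq_of_mul_eq_mul_right (Nat.card_pos (α := Cfsg.Spor.Suz)) ?_
    rw [h2, mul_right_comm, h1, ← Subgroup.card_eq_card_quotient_mul_card_subgroup]
  rw [hcard, Nat.card_zpowers, show (6 : ℕ) = 3 * 2 from rfl]
  exact mul_dvd_mul h3 (orderOf_dvd_of_pow_eq_one (by rw [pow_two, hc2]))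

/-- The kernel of a stem extension is an image of the cyclic group of order six. -/
theorem ker_image (Γ : Type) [Group Γ] [Finite Γ] (σ : Γ →* Cfsg.Spor.Suz)
    (hs : Cfsg.IsStemExtension σ) :
    ∃ π : Multiplicative (ZMod 6) →* σ.ker, Function.Surjective π := by
  have hd := card_ker_dvd hs
  haveI : IsMulCommutative σ.ker :=
    ⟨⟨fun a b => Subtype.ext (Subgroup.mem_center_iff.mp (hs.2.1 b.2) a)⟩⟩
  open scoped IsMulCommutative in
  haveI : Group.IsNilpotent σ.ker := inferInstance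
  haveI : IsZGroup σ.ker :=
    IsZGroup.of_squarefree (Squarefree.squarefree_of_dvd hd (by decide +kernel))
  haveI : IsCyclic σ.ker := inferInstance
  obtain ⟨u, hu⟩ := IsCyclic.exists_generator (α := σ.ker)
  have hu6 : u ^ 6 = 1 := orderOf_dvd_iff_pow_eq_one.mp ((orderOf_dvd_natCard u).trans hd)
  let e : ℤ →+ Additive σ.ker := zmultiplesHom (Additive σ.ker) (Additive.ofMul u)
  have he : e (6 : ℕ) = 0 := by
    show ((6 : ℕ) : ℤ) • Additive.ofMul u = 0
    rw [natCast_zsmul, ← ofMul_pow, hu6]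
    rfl
  let π : Multiplicative (ZMod 6) →* σ.ker :=
    AddMonoidHom.toMultiplicativeLeft (ZMod.lift 6 ⟨e, he⟩)
  refine ⟨π, fun x => ?_⟩
  obtain ⟨k, hk⟩ := hu x
  refine ⟨Multiplicative.ofAdd ((k : ZMod 6)), ?_⟩
  show Additive.toMul (ZMod.lift 6 ⟨e, he⟩ (k : ZMod 6)) = x
  rw [ZMod.lift_coe]
  show Additive.toMul (k • Additive.ofMul u) = x
  rw [← ofMul_zpow, toMul_ofMul]
  exact hk

end CfsgLib.Coset.Suz.Schur
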