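import Cfsg.Agent.Coset.Suz.Schur.CovDefs

set_option autoImplicit false
set_option maxRecDepth 100000
set_option Elab.async false

namespace CfsgLib.Coset.Suz.Schur.Cov
open CfsgLib.Coset

theorem hcov8 : belowBlock 9 32760 covAt 8 = true := by decide +kernel
theorem hcov9 : belowBlock 9 32760 covAt 9 = true := by decide +kernel
theorem hcov10 : belowBlock 9 32760 covAt 10 = true := by decide +kernel
theorem hcov11 : belowBlock 9 32760 covAt 11 = true := by decide +kernel
theorem hcov12 : belowBlock 9 32760 covAt 12 = true := by decide +kernel
theorem hcov13 : belowBlock 9 32760 covAt 13 = true := by decide +kernel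
theorem hcov14 : belowBlock 9 32760 covAt 14 = true := by decide +kernel
theorem hcov15 : belowBlock 9 32760 covAt 15 = true := by decide +kernel

end CfsgLib.Coset.Suz.Schur.Cov
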