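import Cfsg.Agent.Coset.Suz.Schur.CovDefs

set_option autoImplicit false
set_option maxRecDepth 100000
set_option Elab.async false

namespace CfsgLib.Coset.Suz.Schur.Cov
open CfsgLib.Coset

theorem hcov16 : belowBlock 9 32760 covAt 16 = true := by decide +kernel
theorem hcov17 : belowBlock 9 32760 covAt 17 = true := by decide +kernel
theorem hcov18 : belowBlock 9 32760 covAt 18 = true := by decide +kernel
theorem hcov19 : belowBlock 9 32760 covAt 19 = true := by decide +kernel
theorem hcov20 : belowBlock 9 32760 covAt 20 = true := by decide +kernel
theorem hcov21 : belowBlock 9 32760 covAt 21 = true := by decide +kernel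
theorem hcov22 : belowBlock 9 32760 covAt 22 = true := by decide +kernel
theorem hcov23 : belowBlock 9 32760 covAt 23 = true := by decide +kernel

end CfsgLib.Coset.Suz.Schur.Cov
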