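import Cfsg.Agent.Coset.Suz.Schur.CovDefs

set_option autoImplicit false
set_option maxRecDepth 100000
set_option Elab.async false

namespace CfsgLib.Coset.Suz.Schur.Cov
open CfsgLib.Coset

theorem hcov24 : belowBlock 9 32760 covAt 24 = true := by decide +kernel
theorem hcov25 : belowBlock 9 32760 covAt 25 = true := by decide +kernel
theorem hcov26 : belowBlock 9 32760 covAt 26 = true := by decide +kernel
theorem hcov27 : belowBlock 9 32760 covAt 27 = true := by decide +kernel
theorem hcov28 : belowBlock 9 32760 covAt 28 = true := by decide +kernel
theorem hcov29 : belowBlock 9 32760 covAt 29 = true := by decide +kernel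
theorem hcov30 : belowBlock 9 32760 covAt 30 = true := by decide +kernel
theorem hcov31 : belowBlock 9 32760 covAt 31 = true := by decide +kernel

end CfsgLib.Coset.Suz.Schur.Cov
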