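import Cfsg.Agent.Coset.Suz.Schur.CovDefs

set_option autoImplicit false
set_option maxRecDepth 100000
set_option Elab.async false

namespace CfsgLib.Coset.Suz.Schur.Cov
open CfsgLib.Coset

theorem hcov32 : belowBlock 9 32760 covAt 32 = true := by decide +kernel
theorem hcov33 : belowBlock 9 32760 covAt 33 = true := by decide +kernel
theorem hcov34 : belowBlock 9 32760 covAt 34 = true := by decide +kernel
theorem hcov35 : belowBlock 9 32760 covAt 35 = true := by decide +kernel
theorem hcov36 : belowBlock 9 32760 covAt 36 = true := by decide +kernel
theorem hcov37 : belowBlock 9 32760 covAt 37 = true := by decide +kernel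
theorem hcov38 : belowBlock 9 32760 covAt 38 = true := by decide +kernel
theorem hcov39 : belowBlock 9 32760 covAt 39 = true := by decide +kernel

end CfsgLib.Coset.Suz.Schur.Cov
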