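import Cfsg.Agent.Coset.Suz.Schur.CovDefs

set_option autoImplicit false
set_option maxRecDepth 100000
set_option Elab.async false

namespace CfsgLib.Coset.Suz.Schur.Cov
open CfsgLib.Coset

theorem hcov40 : belowBlock 9 32760 covAt 40 = true := by decide +kernel
theorem hcov41 : belowBlock 9 32760 covAt 41 = true := by decide +kernel
theorem hcov42 : belowBlock 9 32760 covAt 42 = true := by decide +kernel
theorem hcov43 : belowBlock 9 32760 covAt 43 = true := by decide +kernel
theorem hcov44 : belowBlock 9 32760 covAt 44 = true := by decide +kernel
theorem hcov45 : belowBlock 9 32760 covAt 45 = true := by decide +kernel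
theorem hcov46 : belowBlock 9 32760 covAt 46 = true := by decide +kernel
theorem hcov47 : belowBlock 9 32760 covAt 47 = true := by decide +kernel

end CfsgLib.Coset.Suz.Schur.Cov
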