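import Cfsg.Agent.Coset.Suz.Schur.CovDefs

set_option autoImplicit false
set_option maxRecDepth 100000
set_option Elab.async false

namespace CfsgLib.Coset.Suz.Schur.Cov
open CfsgLib.Coset

theorem hcov48 : belowBlock 9 32760 covAt 48 = true := by decide +kernel
theorem hcov49 : belowBlock 9 32760 covAt 49 = true := by decide +kernel
theorem hcov50 : belowBlock 9 32760 covAt 50 = true := by decide +kernel
theorem hcov51 : belowBlock 9 32760 covAt 51 = true := by decide +kernel
theorem hcov52 : belowBlock 9 32760 covAt 52 = true := by decide +kernel
theorem hcov53 : belowBlock 9 32760 covAt 53 = true := by decide +kernel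
theorem hcov54 : belowBlock 9 32760 covAt 54 = true := by decide +kernel
theorem hcov55 : belowBlock 9 32760 covAt 55 = true := by decide +kernel

end CfsgLib.Coset.Suz.Schur.Cov
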