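import Cfsg.Agent.Coset.Suz.Schur.CovDefs

set_option autoImplicit false
set_option maxRecDepth 100000
set_option Elab.async false

namespace CfsgLib.Coset.Suz.Schur.Cov
open CfsgLib.Coset

theorem hcov56 : belowBlock 9 32760 covAt 56 = true := by decide +kernel
theorem hcov57 : belowBlock 9 32760 covAt 57 = true := by decide +kernel
theorem hcov58 : belowBlock 9 32760 covAt 58 = true := by decide +kernel
theorem hcov59 : belowBlock 9 32760 covAt 59 = true := by decide +kernel
theorem hcov60 : belowBlock 9 32760 covAt 60 = true := by decide +kernel
theorem hcov61 : belowBlock 9 32760 covAt 61 = true := by decide +kernel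
theorem hcov62 : belowBlock 9 32760 covAt 62 = true := by decide +kernel
theorem hcov63 : belowBlock 9 32760 covAt 63 = true := by decide +kernel

end CfsgLib.Coset.Suz.Schur.Cov
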