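import Cfsg.Agent.Coset.Suz.Schur.CovChk0
import Cfsg.Agent.Coset.Suz.Schur.CovChk1
import Cfsg.Agent.Coset.Suz.Schur.CovChk2
import Cfsg.Agent.Coset.Suz.Schur.CovChk3
import Cfsg.Agent.Coset.Suz.Schur.CovChk4
import Cfsg.Agent.Coset.Suz.Schur.CovChk5
import Cfsg.Agent.Coset.Suz.Schur.CovChk6
import Cfsg.Agent.Coset.Suz.Schur.CovChk7
import Mathlib.Tactic.IntervalCases

/-! The checks of the action and the labels on all points. -/

set_option autoImplicit false
set_option maxRecDepth 100000
set_option Elab.async false

namespace CfsgLib.Coset.Suz.Schur.Cov

open CfsgLib.Coset

theorem hperm : checkPerm id 32760 7 15 3 Tb = true := by decide +kernel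

theorem hcov : allBelow (9 + 6) 32760 covAt = true :=
  allBelow_of_blocks (by decide +kernel) fun b hb => by
    have : b < 64 := by omega
    interval_cases b
    · exact hcov0
    · exact hcov1
    · exact hcov2
    · exact hcov3
    · exact hcov4
    · exact hcov5
    · exact hcov6
    · exact hcov7
    · exact hcov8
    · exact hcov9
    · exact hcov10
    · exact hcov11
    · exact hcov12
    · exact hcov13
    · exact hcov14
    · exact hcov15
    · exact hcov16
    · exact hcov17
    · exact hcov18
    · exact hcov19
    · exact hcov20
    · exact hcov21
    · exact hcov22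
    · exact hcov23
    · exact hcov24
    · exact hcov25
    · exact hcov26
    · exact hcov27
    · exact hcov28
    · exact hcov29
    · exact hcov30
    · exact hcov31
    · exact hcov32
    · exact hcov33
    · exact hcov34
    · exact hcov35
    · exact hcov36
    · exact hcov37
    · exact hcov38
    · exact hcov39
    · exact hcov40
    · exact hcov41
    · exact hcov42
    · exact hcov43
    · exact hcov44
    · exact hcov45
    · exact hcov46
    · exact hcov47
    · exact hcov48
    · exact hcov49
    · exact hcov50
    · exact hcov51
    · exact hcov52
    · exact hcov53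
    · exact hcov54
    · exact hcov55
    · exact hcov56
    · exact hcov57
    · exact hcov58
    · exact hcov59
    · exact hcov60
    · exact hcov61
    · exact hcov62
    · exact hcov63

end CfsgLib.Coset.Suz.Schur.Cov
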