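import Cfsg.Agent.Coset.Suz.Schur.CovDefs

set_option autoImplicit false
set_option maxRecDepth 100000
set_option Elab.async false

namespace CfsgLib.Coset.Suz.Schur.Cov
open CfsgLib.Coset

theorem hcov0 : belowBlock 9 32760 covAt 0 = true := by decide +kernel
theorem hcov1 : belowBlock 9 32760 covAt 1 = true := by decide +kernel
theorem hcov2 : belowBlock 9 32760 covAt 2 = true := by decide +kernel
theorem hcov3 : belowBlock 9 32760 covAt 3 = true := by decide +kernel
theorem hcov4 : belowBlock 9 32760 covAt 4 = true := by decide +kernel
theorem hcov5 : belowBlock 9 32760 covAt 5 = true := by decide +kernel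
theorem hcov6 : belowBlock 9 32760 covAt 6 = true := by decide +kernel
theorem hcov7 : belowBlock 9 32760 covAt 7 = true := by decide +kernel

end CfsgLib.Coset.Suz.Schur.Cov
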