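import Cfsg.Agent.Coset.Sift
import Cfsg.Agent.Coset.Blocks
import Cfsg.Agent.Coset.Suz.Schur.CovTbData
import Cfsg.Agent.Coset.Suz.Schur.CovLamData

/-!
Labels in `ZMod 6` on the edges of the action of `Cfsg.Spor.Suz` on 32760 points.
-/

set_option autoImplicit false
set_option maxRecDepth 100000
set_option Elab.async false

namespace CfsgLib.Coset.Suz.Schur.Cov

open CfsgLib.Coset

section Kernel

/-- The label of an edge. -/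
noncomputable def lam (i l : Nat) : Nat := Nat.land (Nat.shiftRight (Lam i) (Nat.mul 3 l)) 7

/-- The sum of the labels along a word, added to `acc`. -/
noncomputable def sumL (w : List Nat) (i acc : Nat) : Nat :=
  List.rec (motive := fun _ => Nat → Nat → Nat) (fun _ acc => acc)
    (fun l _ ih i acc => force (tget Tb i l) fun q => force (Nat.add acc (lam i l)) fun a =>
      ih q a) w i acc

/-- The relators with their sums. -/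
def checked : List (List Nat × Nat) := [([0, 0], 0), ([0, 1, 0, 1, 0, 1, 0, 1, 0, 1], 0), ([0, 2, 0, 2], 0), ([0, 3, 0, 3], 3), ([0, 4, 0, 4], 3), ([0, 5, 0, 5], 0), ([0, 6, 0, 6], 0), ([1, 1], 0), ([1, 2, 1, 2, 1, 2], 0), ([1, 3, 1, 3], 3), ([1, 4, 1, 4], 3), ([1, 5, 1, 5, 1, 5], 0), ([1, 6, 1, 6, 1, 6], 0), ([2, 2], 0), ([2, 3, 2, 3, 2, 3, 2, 3, 2, 3, 2, 3, 2, 3, 2, 3], 0), ([2, 4, 2, 4], 3), ([2, 5, 2, 5], 0), ([2, 6, 2, 6], 0), ([3, 3], 3), ([3, 4, 3, 4, 3, 4], 0), ([3, 5, 3, 5], 3), ([3, 6, 3, 6], 3), ([4, 4], 3), ([4, 5, 4, 5], 3), ([4, 6, 4, 6], 3), ([5, 5], 0), ([5, 6, 5, 6, 5, 6, 5, 6], 0), ([6, 6], 0), ([0, 3, 2, 3, 2, 3, 2, 3, 2], 0), ([0, 6, 5, 6, 5], 0), ([0, 1, 2, 5, 0, 1, 2, 5, 0, 1, 2, 5, 0, 1, 2, 5, 0, 1, 2, 5], 3), ([1, 5, 6, 1, 5, 6, 1, 5, 6, 1, 5, 6, 1, 5, 6], 2), ([1, 2, 3, 2, 3, 1, 2, 3, 2, 3, 1, 2, 3, 2, 3, 1, 2, 3,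 2, 3, 1, 2, 3, 2, 3, 4, 1, 2, 3, 2, 3, 1, 2, 3, 2, 3, 1, 2, 3, 2, 3, 1, 2, 3, 2, 3, 1, 2, 3, 2, 3, 4, 1, 2, 3, 2, 3, 1, 2, 3, 2, 3, 1, 2, 3, 2, 3, 1, 2, 3, 2, 3, 1, 2, 3, 2, 3, 4], 0)]

/-- All relators at a point. -/
noncomputable def covAt (i : Nat) : Bool :=
  allList (fun p : List Nat × Nat => cond (Nat.beq (follow (tget Tb) i p.1) i)
    (Nat.beq (Nat.mod (sumL p.1 i 0) 6) p.2) false) checked

end Kernel

end CfsgLib.Coset.Suz.Schur.Cov
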