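import Cfsg.Agent.Coset.Suz.Main
import Cfsg.Agent.Coset.Suz.Schur.CovChk
import Cfsg.Prelude.Def_KGroupFacts
import Mathlib.GroupTheory.SemidirectProduct
import Mathlib.Data.ZMod.Basic
import Mathlib.GroupTheory.SpecificGroups.Cyclic

/-!
A sixfold cover of `Cfsg.Spor.Suz`: monomial permutations of 32760 points with values in the group
of order six.
-/

set_option autoImplicit false
set_option maxRecDepth 100000
set_option Elab.async false

namespace CfsgLib.Coset.Suz.Schur.Cov

open CfsgLib.Coset

/-- The group of order six. -/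
abbrev M6 : Type := Multiplicative (ZMod 6)

/-- Monomial permutations. -/
abbrev Mono (n : Nat) : Type :=
  (Fin n → M6) ⋊[mulAutArrow] Equiv.Perm (Fin n)

theorem mono_finite (n : Nat) : Finite (Mono n) :=
  Finite.of_equiv _ SemidirectProduct.equivProd.symm

theorem mono_left_mul {n : Nat} (a b : Mono n) (i : Fin n) :
    (a * b).left i = a.left i * b.left (a.right⁻¹ i) := rfl

/-- The monomial permutation of a letter. -/
noncomputable def Sl (l : Nat) : Mono 32760 :=
  ⟨fun i => Multiplicative.ofAdd ((lam i l : ZMod 6)), sig hperm l⟩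

/-- The list of these. -/
noncomputable def SL : List (Mono 32760) := (List.range 7).map Sl

theorem fl_SL {l : Nat} (hl : l < 7) : fl SL l = Sl l := by
  simp [fl, SL, List.getD_eq_getElem?_getD, hl]

theorem right_SL (w : List Nat) : (ev SL w).right = ev (sigList hperm) w := by
  induction w with
  | nil => simp
  | cons l w ih =>
    rw [ev_cons, ev_cons, SemidirectProduct.mul_right, ih]
    congr 1
    rcases Nat.lt_or_ge l 7 with hl | hl
    · rw [fl_SL hl, fl_sigList]; rfl
    · rw [fl_of_le _ (by simp [SL, hl]), fl_of_le _ (by simp [sigList, hl])]; rfl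

theorem force_eq {α : Type} (x : Nat) (f : Nat → α) : force x f = f x := by
  cases x <;> rfl

theorem sumL_cons (l : Nat) (w : List Nat) (i acc : Nat) :
    sumL (l :: w) i acc = sumL w (tget Tb i l) (acc + lam i l) := by
  rw [show sumL (l :: w) i acc = force (tget Tb i l) (fun q => force (Nat.add acc (lam i l))
    fun a => sumL w q a) from rfl, force_eq, force_eq]
  rfl

theorem left_SL : ∀ (w : List Nat) (i : Fin 32760) (acc : Nat), (∀ l ∈ w, l < 7) →
    Multiplicative.ofAdd (acc : ZMod 6) * (ev SL w).left i =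
      Multiplicative.ofAdd ((sumL w i acc : ℕ) : ZMod 6)
  | [], i, acc, _ => by
    rw [ev_nil]
    show _ * (1 : Fin 32760 → M6) i = _
    simp [sumL]
  | l :: w, i, acc, h => by
    have hl := h l (by simp)
    rw [ev_cons, fl_SL hl, mono_left_mul, ← mul_assoc, sumL_cons]
    show Multiplicative.ofAdd (acc : ZMod 6) * Multiplicative.ofAdd ((lam i l : ℕ) : ZMod 6) *
      (ev SL w).left ((sig hperm l)⁻¹ i) = _
    rw [← ofAdd_add, ← Nat.cast_add, left_SL w _ _ (fun x hx => h x (by simp [hx])),
      sig_symm_apply hperm hl i]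

/-- The kernel element. -/
def om : Mono 32760 := ⟨fun _ => Multiplicative.ofAdd 1, 1⟩

theorem om_pow (c : ℕ) : om ^ c = ⟨fun _ => Multiplicative.ofAdd (c : ZMod 6), 1⟩ := by
  induction c with
  | zero => simp; rfl
  | succ c ih =>
    rw [pow_succ, ih]
    refine SemidirectProduct.ext (funext fun i => ?_) (mul_one _)
    rw [mono_left_mul]
    show Multiplicative.ofAdd (c : ZMod 6) * Multiplicative.ofAdd 1 = _
    rw [← ofAdd_add]
    push_cast
    rfl

theorem checked_rels : checked.map Prod.fst = rels := by decide +kernel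

theorem checked_letters : ∀ p ∈ checked, ∀ l ∈ p.1, l < 7 := by decide +kernel

theorem covAt_spec {p : List Nat × Nat} (hp : p ∈ checked) (i : Fin 32760) :
    follow (tget Tb) i p.1 = i ∧ sumL p.1 i 0 % 6 = p.2 := by
  obtain ⟨h1, h2⟩ := cond_false_eq_true.mp (allList_iff.mp (of_allBelow hcov i i.2) p hp)
  exact ⟨Nat.eq_of_beq_eq_true h1, Nat.eq_of_beq_eq_true h2⟩

theorem perm_rels : ∀ w ∈ rels, ev (sigList hperm) w = 1 := by
  intro w hw
  rw [← checked_rels] at hw
  obtain ⟨p, hp, rfl⟩ := List.mem_map.mp hw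
  refine Equiv.ext fun i => ?_
  have h : (ev (sigList hperm) p.1)⁻¹ i = i := Fin.ext <| by
    rw [ev_sigList_inv_apply hperm p.1 i (checked_letters p hp)]
    exact (covAt_spec hp i).1
  show ev (sigList hperm) p.1 i = i
  conv_lhs => rw [← h]
  simp

/-- The action on 32760 points. -/
noncomputable def ρ₂ : Cfsg.Spor.Suz →* Equiv.Perm (Fin 32760) :=
  pres.hom pres_ok (rels_eq ▸ perm_rels)

theorem ρ₂_fl {l : Nat} (hl : l < 7) : ρ₂ (fl Lg l) = fl (sigList hperm) l := by
  obtain ⟨x, rfl⟩ := hix l hl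
  exact pres.hom_fl pres_ok _ x

theorem ρ₂_injective : Function.Injective ρ₂ := by
  haveI := isSimple
  refine (MonoidHom.ker_eq_bot_iff ρ₂).mp (((MonoidHom.normal_ker ρ₂).eq_bot_or_eq_top).resolve_right
    fun h => ?_)
  have h1 : ρ₂ (fl Lg 3) = 1 := MonoidHom.mem_ker.mp (h ▸ Subgroup.mem_top _)
  rw [ρ₂_fl (by norm_num), fl_sigList] at h1
  have h2 := sig_symm_apply hperm (show 3 < 7 by norm_num) ⟨0, by norm_num⟩
  rw [h1] at h2
  revert h2
  show (0 : Nat) = tget Tb 0 3 → False
  decide +kernel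

theorem checked_value {p : List Nat × Nat} (hp : p ∈ checked) : ev SL p.1 = om ^ p.2 := by
  rw [om_pow]
  refine SemidirectProduct.ext (funext fun i => ?_) (by
    rw [right_SL, perm_rels p.1 (checked_rels ▸ List.mem_map_of_mem hp)])
  have h := left_SL p.1 i 0 (checked_letters p hp)
  rw [Nat.cast_zero, ofAdd_zero, one_mul] at h
  rw [h]
  show Multiplicative.ofAdd ((sumL p.1 i 0 : ℕ) : ZMod 6) = Multiplicative.ofAdd ((p.2 : ℕ) : ZMod 6)
  rw [← (covAt_spec hp i).2, ZMod.natCast_mod]

theorem om_central (x : Mono 32760) : x * om = om * x := by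
  refine SemidirectProduct.ext (funext fun i => ?_) ((mul_one _).trans (one_mul _).symm)
  rw [mono_left_mul, mono_left_mul]
  exact mul_comm _ _

theorem om_six : om ^ 6 = 1 := by
  rw [om_pow]
  exact SemidirectProduct.ext
    (funext fun _ => (show Multiplicative.ofAdd ((6 : ℕ) : ZMod 6) = 1 by decide)) rfl

/-- The cover. -/
noncomputable def Cov6 : Subgroup (Mono 32760) := Subgroup.closure {x | x ∈ SL}

theorem ev_mem_Cov6 : ∀ w : List Nat, ev SL w ∈ Cov6
  | [] => by simp
  | l :: w => by
    rw [ev_cons]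
    refine mul_mem ?_ (ev_mem_Cov6 w)
    rcases Nat.lt_or_ge l SL.length with hl | hl
    · rw [fl, List.getD_eq_getElem _ _ hl]; exact Subgroup.subset_closure (List.getElem_mem hl)
    · rw [fl_of_le _ hl]; exact one_mem _

theorem om_mem : om ∈ Cov6 := by
  have h3 := checked_value (p := ([3, 3], 3)) (by decide +kernel)
  have h2 := checked_value (p := (rels.getD 31 [], 2)) (by decide +kernel)
  have h : om = om ^ 3 * (om ^ 2) * (om ^ 2) := by
    rw [← pow_add, ← pow_add, show 3 + 2 + 2 = 6 + 1 from rfl, pow_add, om_six, one_mul, pow_one]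
  rw [h, ← h3, ← h2]
  exact mul_mem (mul_mem (ev_mem_Cov6 _) (ev_mem_Cov6 _)) (ev_mem_Cov6 _)

theorem right_mem_range (x : Mono 32760) (hx : x ∈ Cov6) : x.right ∈ ρ₂.range := by
  induction hx using Subgroup.closure_induction with
  | mem y hy =>
    obtain ⟨l, hl, rfl⟩ := List.mem_map.mp hy
    have hl7 : l < 7 := List.mem_range.mp hl
    exact ⟨fl Lg l, by rw [ρ₂_fl hl7, fl_sigList]; rfl⟩
  | one => exact one_mem _
  | mul a b _ _ ha hb => exact mul_mem ha hb
  | inv a _ ha => exact inv_mem ha

/-- The covering map. -/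
noncomputable def cov : Cov6 →* Cfsg.Spor.Suz :=
  (MonoidHom.ofInjective ρ₂_injective).symm.toMonoidHom.comp
    ((SemidirectProduct.rightHom.comp Cov6.subtype).codRestrict ρ₂.range
      fun x => right_mem_range x x.2)

theorem ρ₂_cov (x : Cov6) : ρ₂ (cov x) = (x : Mono 32760).right := by
  have h := MulEquiv.apply_symm_apply (MonoidHom.ofInjective ρ₂_injective)
    ((SemidirectProduct.rightHom.comp Cov6.subtype).codRestrict ρ₂.range
      (fun x => right_mem_range x x.2) x)
  exact congrArg Subtype.val h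

/-- The generators of the cover. -/
noncomputable def Cgen (l : Nat) : Cov6 := ⟨ev SL [l], ev_mem_Cov6 _⟩

theorem cov_gen {l : Nat} (hl : l < 7) : cov (Cgen l) = fl Lg l := by
  refine ρ₂_injective ?_
  rw [ρ₂_cov]
  show (ev SL [l]).right = _
  rw [right_SL, ρ₂_fl hl]
  simp

theorem cov_surjective : Function.Surjective cov := by
  intro x
  have hx : x ∈ Subgroup.closure {y | y ∈ Lg} := closure_Lg ▸ Subgroup.mem_top x
  refine MonoidHom.mem_range.mp ((Subgroup.closure_le (K := cov.range)).mpr ?_ hx)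
  intro y hy
  obtain ⟨l, hl, rfl⟩ := List.getElem_of_mem hy
  rw [← List.getD_eq_getElem Lg 1 hl]
  exact ⟨Cgen l, cov_gen (by simpa [len_Lg] using hl)⟩

/-- The kernel element in the cover. -/
noncomputable def omC : Cov6 := ⟨om, om_mem⟩

theorem omC_central : omC ∈ Subgroup.center Cov6 :=
  Subgroup.mem_center_iff.mpr fun x => Subtype.ext (om_central x)

theorem omC_six : omC ^ 6 = 1 := Subtype.ext om_six

theorem omC_ne {c : ℕ} (hc : c ∈ [1, 2, 3]) : omC ^ c ≠ 1 := by
  intro h
  have h0 : om ^ c = 1 := congrArg Subtype.val h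
  rw [om_pow] at h0
  have h' := congrArg (fun x : Mono 32760 => x.left ⟨0, by decide⟩) h0
  simp only [List.mem_cons, List.not_mem_nil, or_false] at hc
  rcases hc with rfl | rfl | rfl <;> revert h'
  · show Multiplicative.ofAdd ((1 : ℕ) : ZMod 6) = 1 → False; decide
  · show Multiplicative.ofAdd ((2 : ℕ) : ZMod 6) = 1 → False; decide
  · show Multiplicative.ofAdd ((3 : ℕ) : ZMod 6) = 1 → False; decide

theorem gen_generate (x : Cov6) : x ∈ Subgroup.closure (Set.range fun l : Fin 7 => Cgen l) := by
  obtain ⟨y, hy⟩ := x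
  induction hy using Subgroup.closure_induction with
  | mem z hz =>
    obtain ⟨l, hl, rfl⟩ := List.mem_map.mp hz
    refine Subgroup.subset_closure ⟨⟨l, List.mem_range.mp hl⟩, Subtype.ext ?_⟩
    show ev SL [l] = Sl l
    rw [ev_cons, ev_nil, mul_one, fl_SL (List.mem_range.mp hl)]
  | one => exact one_mem _
  | mul a b ha hb h1 h2 => exact mul_mem h1 h2
  | inv a ha h1 => exact inv_mem h1

theorem ev_image {X : Type*} [Group X] (q : Cov6 →* X) (w : List Nat) :
    ev ((List.range 7).map fun l => q (Cgen l)) w = q ⟨ev SL w, ev_mem_Cov6 w⟩ := by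
  have hfl : ∀ l, fl ((List.range 7).map fun l => q (Cgen l)) l =
      q ⟨fl SL l, by simpa using ev_mem_Cov6 [l]⟩ := by
    intro l
    rcases Nat.lt_or_ge l 7 with hl | hl
    · simp only [fl, List.getD_eq_getElem?_getD, List.getElem?_map, List.getElem?_range hl,
        Option.map_some, Option.getD_some]
      exact congrArg q (Subtype.ext (by show ev SL [l] = _; simp [fl, List.getD_eq_getElem?_getD]))
    · rw [fl_of_le _ (by simpa using hl)]
      have h1 : fl SL l = 1 := fl_of_le _ (by simp [SL, hl])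
      rw [show (⟨fl SL l, _⟩ : Cov6) = 1 from Subtype.ext h1, map_one]
  induction w with
  | nil => exact (map_one q).symm
  | cons l w ih => rw [ev_cons, hfl, ih, ← map_mul]; rfl

theorem value {p : List Nat × Nat} (hp : p ∈ checked) :
    (⟨ev SL p.1, ev_mem_Cov6 p.1⟩ : Cov6) = omC ^ p.2 :=
  Subtype.ext (checked_value hp)

theorem ker_cov : cov.ker = Subgroup.zpowers omC := by
  refine le_antisymm (fun x hx => ?_) ?_
  swap
  · rw [Subgroup.zpowers_le, MonoidHom.mem_ker]
    refine ρ₂_injective ?_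
    rw [ρ₂_cov, map_one]
    rfl
  haveI : (Subgroup.zpowers omC).Normal := ⟨fun n hn g => by
    rw [Subgroup.mem_center_iff.mp ((Subgroup.zpowers_le.mpr omC_central) hn) g,
      mul_inv_cancel_right]
    exact hn⟩
  let q := QuotientGroup.mk' (Subgroup.zpowers omC)
  have hr : ∀ w ∈ pres.rels, ev ((List.range 7).map fun l => q (Cgen l)) w = 1 := by
    rw [rels_eq]
    intro w hw
    rw [← checked_rels] at hw
    obtain ⟨p, hp, rfl⟩ := List.mem_map.mp hw
    rw [ev_image, value hp, QuotientGroup.mk'_apply, QuotientGroup.eq_one_iff]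
    exact pow_mem (Subgroup.mem_zpowers _) _
  let s := pres.hom pres_ok hr
  have hs : ∀ y : Cov6, s (cov y) = q y := by
    intro y
    induction gen_generate y using Subgroup.closure_induction with
    | mem z hz =>
      obtain ⟨⟨l, hl⟩, rfl⟩ := hz
      show s (cov (Cgen l)) = q (Cgen l)
      rw [cov_gen hl]
      obtain ⟨x, rfl⟩ := hix l hl
      refine (pres.hom_fl pres_ok hr x).trans ?_
      show fl ((List.range 7).map fun l => q (Cgen l)) (ix x) = _
      simp [fl, List.getD_eq_getElem?_getD, List.getElem?_map, List.getElem?_range hl]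
    | one => simp
    | mul a b _ _ ha hb => rw [map_mul, map_mul, map_mul, ha, hb]
    | inv a _ ha => rw [map_inv, map_inv, map_inv, ha]
  refine (QuotientGroup.eq_one_iff x).mp ?_
  show q x = 1
  rw [← hs, MonoidHom.mem_ker.mp hx, map_one]

theorem omC_ab : Abelianization.of omC = 1 := by
  set π := Abelianization.of (G := Cov6)
  set W := π omC
  have rel : ∀ {w : List Nat} {c : Nat}, (w, c) ∈ checked →
      ev ((List.range 7).map fun l => π (Cgen l)) w = W ^ c := fun {w c} h => by
    rw [ev_image, value h, map_pow]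
  have W6 : W ^ 6 = 1 := by rw [← map_pow, omC_six, map_one]
  have rAB := rel (w := [0, 1, 0, 1, 0, 1, 0, 1, 0, 1]) (c := 0) (by decide +kernel)
  have rB2 := rel (w := [1, 1]) (c := 0) (by decide +kernel)
  have rC2 := rel (w := [2, 2]) (c := 0) (by decide +kernel)
  have rF2 := rel (w := [5, 5]) (c := 0) (by decide +kernel)
  have rG2 := rel (w := [6, 6]) (c := 0) (by decide +kernel)
  have rBC := rel (w := [1, 2, 1, 2, 1, 2]) (c := 0) (by decide +kernel)
  have rBF := rel (w := [1, 5, 1, 5, 1, 5]) (c := 0) (by decide +kernel)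
  have rBG := rel (w := [1, 6, 1, 6, 1, 6]) (c := 0) (by decide +kernel)
  have rD2 := rel (w := [3, 3]) (c := 3) (by decide +kernel)
  have rA := rel (w := [0, 3, 2, 3, 2, 3, 2, 3, 2]) (c := 0) (by decide +kernel)
  have r30 := rel (w := [0, 1, 2, 5, 0, 1, 2, 5, 0, 1, 2, 5, 0, 1, 2, 5, 0, 1, 2, 5]) (c := 3)
    (by decide +kernel)
  have r31 := rel (w := [1, 5, 6, 1, 5, 6, 1, 5, 6, 1, 5, 6, 1, 5, 6]) (c := 2) (by decide +kernel)
  simp only [ev_cons, ev_nil, mul_one, fl, List.getD_eq_getElem?_getD, List.getElem?_map,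
    List.getElem?_range (show 0 < 7 by norm_num), List.getElem?_range (show 1 < 7 by norm_num),
    List.getElem?_range (show 2 < 7 by norm_num), List.getElem?_range (show 3 < 7 by norm_num),
    List.getElem?_range (show 5 < 7 by norm_num), List.getElem?_range (show 6 < 7 by norm_num),
    Option.map_some, Option.getD_some, pow_zero]
    at rAB rB2 rC2 rF2 rG2 rBC rBF rBG rD2 rA r30 r31
  set A := π (Cgen 0)
  set B := π (Cgen 1)
  set C := π (Cgen 2)
  set D := π (Cgen 3)
  set F := π (Cgen 5)
  set G := π (Cgen 6)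
  have sq : ∀ {X : Abelianization Cov6}, X * X = 1 → ∀ Y, X * (X * Y) = Y := fun h Y => by
    rw [← mul_assoc, h, one_mul]
  simp only [mul_comm, mul_left_comm, mul_assoc, rB2, rC2, rF2, rG2, sq rB2, sq rC2, sq rF2, sq rG2,
    mul_one, one_mul] at rBC rBF rBG rAB rA r30 r31
  have eC : C = B := by
    calc C = B * (B * C) := (sq rB2 C).symm
      _ = B := by rw [show B * C = 1 by simpa [mul_comm, mul_left_comm] using rBC, mul_one]
  have eF : F = B := by
    calc F = B * (B * F) := (sq rB2 F).symm
      _ = B := by rw [show B * F = 1 by simpa [mul_comm, mul_left_comm] using rBF, mul_one]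
  have eG : G = B := by
    calc G = B * (B * G) := (sq rB2 G).symm
      _ = B := by rw [show B * G = 1 by simpa [mul_comm, mul_left_comm] using rBG, mul_one]
  have eD : D * (D * (D * D)) = 1 := by
    rw [← mul_assoc, rD2, ← pow_add, W6]
  rw [eD, mul_one] at rA
  have eB : B = 1 := by
    rw [rA] at rAB; simpa using rAB
  have h3 : W ^ 3 = 1 := by
    rw [← r30]; simp [rA, eB, eC, eF]
  have h2 : W ^ 2 = 1 := by
    rw [← r31]; simp [eB, eF, eG]
  calc W = W ^ 3 * (W ^ 2)⁻¹ := by rw [pow_succ W 2, mul_comm (W ^ 2) W, mul_inv_cancel_right]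
    _ = 1 := by rw [h3, h2, inv_one, mul_one]

/-- The cover with kernel of order six. -/
theorem exists_cover : ∃ (Γ : Type) (_ : Group Γ) (_ : Finite Γ) (σ : Γ →* Cfsg.Spor.Suz),
    Cfsg.IsStemExtension σ ∧ Nonempty (σ.ker ≃* Multiplicative (ZMod 6)) := by
  haveI := mono_finite 32760
  refine ⟨Cov6, inferInstance, inferInstance, cov, ⟨cov_surjective, ?_, ?_⟩, ?_⟩
  · rw [ker_cov]; exact Subgroup.zpowers_le.mpr omC_central
  · rw [ker_cov, Subgroup.zpowers_le]
    exact (QuotientGroup.eq_one_iff _).mp omC_ab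
  · rw [ker_cov]
    have hord : orderOf omC = 6 := by
      have hd : orderOf omC ∣ 6 := orderOf_dvd_of_pow_eq_one omC_six
      have hmem : orderOf omC ∈ [1, 2, 3, 6] := by
        have : ∀ d < 7, d ∣ 6 → d ∈ [1, 2, 3, 6] := by decide
        exact this _ (Nat.lt_succ_of_le (Nat.le_of_dvd (by norm_num) hd)) hd
      simp only [List.mem_cons, List.not_mem_nil, or_false] at hmem
      have hne : ∀ c ∈ [1, 2, 3], orderOf omC ≠ c := fun c hc e =>
        omC_ne hc (e ▸ pow_orderOf_eq_one omC)
      rcases hmem with h | h | h | h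
      · exact absurd h (hne 1 (by simp))
      · exact absurd h (hne 2 (by simp))
      · exact absurd h (hne 3 (by simp))
      · exact h
    exact ⟨mulEquivOfCyclicCardEq (by rw [Nat.card_zpowers, hord]; simp)⟩

end CfsgLib.Coset.Suz.Schur.Cov
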