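import Cfsg.Agent.Coset.Suz.Schur.Bound
import Cfsg.Agent.Coset.Suz.Schur.Cover

/-!
The multiplier of `Cfsg.Spor.Suz` has order six.
-/

set_option autoImplicit false

namespace CfsgLib.Coset.Suz.Schur

theorem multiplier : Cfsg.HasCyclicSchurMultiplier Cfsg.Spor.Suz 6 :=
  ⟨Cov.exists_cover, ker_image⟩

end CfsgLib.Coset.Suz.Schur
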