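import Cfsg.Agent.Coset.Suz.Schur.Base

/-!
Stem extensions of `Cfsg.Spor.Suz` with kernel of odd exponent: the lifts are involutions, their
products invert the kernel elements given by the dihedral relators, and the last relator is real.
-/

set_option autoImplicit false
set_option maxRecDepth 100000
set_option Elab.async false

namespace CfsgLib.Coset.Suz.Schur

open CfsgLib.Coset

section Kernel

/-- Pairs of letters with the order of their product. -/
def pairs : List (Nat × Nat × Nat) :=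
  [(0, 0, 1), (1, 1, 1), (2, 2, 1), (3, 3, 1), (4, 4, 1), (5, 5, 1), (6, 6, 1), (0, 1, 5),
    (0, 2, 2), (0, 3, 2), (0, 4, 2), (0, 5, 2), (0, 6, 2), (1, 2, 3), (1, 3, 2), (1, 4, 2),
    (1, 5, 3), (1, 6, 3), (2, 3, 8), (2, 4, 2), (2, 5, 2), (2, 6, 2), (3, 4, 3), (3, 5, 2),
    (3, 6, 2), (4, 5, 2), (4, 6, 2), (5, 6, 4)]

/-- The word of a pair. -/
def pairW (p : Nat × Nat × Nat) : List Nat := (List.replicate p.2.2 [p.1, p.2.1]).flatten

/-- The relator on the fourth letter set with the first. -/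
def rF : List Nat := [0, 1, 2, 5, 0, 1, 2, 5, 0, 1, 2, 5, 0, 1, 2, 5, 0, 1, 2, 5]

end Kernel

theorem base_cases : ∀ w ∈ base, w ∈ pairs.map pairW ∨ w = [0, 3, 2, 3, 2, 3, 2, 3, 2] := by
  decide +kernel

theorem rels_cases : ∀ w ∈ rels, w ∈ pairs.map pairW ∨ w = [0, 3, 2, 3, 2, 3, 2, 3, 2] ∨
    w = [0, 6, 5, 6, 5] ∨ w = rF ∨ w = rB ∨ w = rJ := by
  decide +kernel

theorem pairs_rels : ∀ p ∈ pairs, pairW p ∈ rels := by decide +kernel

theorem rJ_split : rJ = (wJ ++ [4]) ++ ((wJ ++ [4]) ++ (wJ ++ [4])) := by decide +kernel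

theorem wJ_ok : checkLetters 4 [wJ] = true ∧ checkLetters 7 [wJ ++ (wJ ++ wJ)] = true ∧
    checkRels 1782 11 Top.Tb [wJ ++ (wJ ++ wJ)] = true := by
  refine ⟨?_, ?_, ?_⟩ <;> decide +kernel

theorem gJ_ok : sameW (gJ ++ (wJ ++ gJ.reverse)) wJ.reverse = true ∧
    sameW (gJ ++ ([4] ++ gJ.reverse)) [4] = true := by
  constructor <;> decide +kernel

theorem gB_ok : sameW (gB ++ ([1, 5, 6] ++ gB.reverse)) [6, 5, 1] = true := by decide +kernel

theorem rB_split : rB = (List.replicate 5 [1, 5, 6]).flatten := by decide +kernel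

variable {Γ : Type} [Group Γ] {σ : Γ →* Cfsg.Spor.Suz} {n : ℕ}

theorem eq_one_of_sq {z : Γ} (hn : Odd n) (hz : z ^ n = 1) (h2 : z * z = 1) : z = 1 := by
  obtain ⟨j, rfl⟩ := hn
  rwa [pow_succ, pow_mul, pow_two, h2, one_pow, one_mul] at hz

/-- An involution of the quotient has an involutive lift. -/
theorem exists_sq (hs : Cfsg.IsStemExtension σ) (hn : Odd n)
    (he : ∀ z : Γ, σ z = 1 → z ^ n = 1) {x : Cfsg.Spor.Suz} (hx : x * x = 1) :
    ∃ X : Γ, σ X = x ∧ X * X = 1 := by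
  obtain ⟨X, hX⟩ := hs.1 x
  obtain ⟨j, rfl⟩ := hn
  have hz : σ (X * X) = 1 := by rw [map_mul, hX, hx]
  refine ⟨X * (X * X) ^ j, by rw [map_mul, map_pow, hz, one_pow, mul_one, hX], ?_⟩
  have hc : (X * X) ^ j * X = X * (X * X) ^ j := by
    rw [central hs (z := (X * X) ^ j) (by rw [map_pow, hz, one_pow]) X]
  calc X * (X * X) ^ j * (X * (X * X) ^ j)
      = X * ((X * X) ^ j * X) * (X * X) ^ j := by simp only [mul_assoc]
    _ = (X * X) * ((X * X) ^ j * (X * X) ^ j) := by rw [hc]; simp only [mul_assoc]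
    _ = (X * X) ^ (2 * j + 1) := by rw [← pow_add, ← pow_succ', two_mul]
    _ = 1 := he _ hz

theorem exists_lift (hs : Cfsg.IsStemExtension σ) (hn : Odd n)
    (he : ∀ z : Γ, σ z = 1 → z ^ n = 1) : ∃ L : List Γ, IsLift σ L := by
  choose f hf hf2 using fun l : Nat => exists_sq hs hn he (sq_all l)
  refine ⟨(List.range 7).map f, ⟨by simp, fun l => ?_, fun x => ?_⟩⟩
  · rcases Nat.lt_or_ge l 7 with hl | hl
    · simp only [fl, List.getD_eq_getElem?_getD, List.getElem?_map, List.getElem?_range hl,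
        Option.map_some, Option.getD_some]
      exact hf l
    · rw [fl_of_le _ (by simpa using hl), fl_of_le _ (by rw [len_Lg]; exact hl), map_one]
  · rcases Nat.lt_or_ge x 7 with hx | hx
    · simp only [fl, List.getD_eq_getElem?_getD, List.getElem?_map, List.getElem?_range hx,
        Option.map_some, Option.getD_some]
      exact hf2 x
    · rw [fl_of_le _ (by simpa using hx), one_mul]

/-- The dihedral relators hold. -/
theorem pair_one (hs : Cfsg.IsStemExtension σ) (hn : Odd n)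
    (he : ∀ z : Γ, σ z = 1 → z ^ n = 1) {L : List Γ} (hL : IsLift σ L) :
    ∀ p ∈ pairs, ev L (pairW p) = 1 := by
  intro p hp
  have hσ : σ (ev L (pairW p)) = 1 := by rw [map_ev hL.img, ev_rels _ (pairs_rels p hp)]
  have hev : ev L (pairW p) = (fl L p.1 * fl L p.2.1) ^ p.2.2 := by
    rw [pairW, ← pow_ev]; simp
  rw [hev] at hσ ⊢
  set X := fl L p.1
  set Y := fl L p.2.1
  have iX : X⁻¹ = X := inv_eq_of_mul_eq_one_right (hL.sq _)
  have iY : Y⁻¹ = Y := inv_eq_of_mul_eq_one_right (hL.sq _)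
  refine eq_one_of_sq hn (he _ hσ) ?_
  have h : X * (X * Y) ^ p.2.2 * X⁻¹ = ((X * Y) ^ p.2.2)⁻¹ := by
    rw [← conj_pow, ← inv_pow, mul_inv_rev, iX, iY, ← mul_assoc X X Y, hL.sq, one_mul]
  rw [central hs hσ X, mul_inv_cancel_right] at h
  nth_rewrite 2 [h]
  exact mul_inv_cancel _

theorem pairs_comm (hs : Cfsg.IsStemExtension σ) (hn : Odd n)
    (he : ∀ z : Γ, σ z = 1 → z ^ n = 1) {L : List Γ} (hL : IsLift σ L) {i j : Nat}
    (hp : (i, j, 2) ∈ pairs) : fl L i * fl L j = fl L j * fl L i := by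
  have h := pair_one hs hn he hL _ hp
  simp only [pairW, List.replicate_succ, List.replicate_zero, List.flatten_cons,
    List.flatten_nil, List.append_nil, List.cons_append, List.nil_append, ev_cons, ev_nil,
    mul_one] at h
  calc fl L i * fl L j = (fl L i * fl L j)⁻¹ := eq_inv_of_mul_eq_one_left (by simpa [mul_assoc] using h)
    _ = fl L j * fl L i := by
      rw [mul_inv_rev, inv_eq_of_mul_eq_one_right (hL.sq _), inv_eq_of_mul_eq_one_right (hL.sq _)]

theorem base_one (hs : Cfsg.IsStemExtension σ) (hn : Odd n)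
    (he : ∀ z : Γ, σ z = 1 → z ^ n = 1) {L : List Γ} (hL : IsLift σ L) :
    (∀ w ∈ base, ev L w = 1) ∧ ev L [0, 6, 5, 6, 5] = 1 := by
  have key : ∀ i j m : Nat, (0, i, 2) ∈ pairs → (0, j, 2) ∈ pairs → (fl L j * fl L i) ^ m *
      (fl L j * fl L i) ^ m = 1 → ∀ w, ev L w = fl L 0 * (fl L j * fl L i) ^ m → ev Lg w = 1 →
      ev L w = 1 := by
    intro i j m hi hj hsq w hw hg
    have hc : Commute (fl L 0) ((fl L j * fl L i) ^ m) :=
      (Commute.mul_right (pairs_comm hs hn he hL hj) (pairs_comm hs hn he hL hi)).pow_right m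
    refine eq_one_of_sq hn (he _ (by rw [map_ev hL.img, hg])) ?_
    rw [hw]
    calc fl L 0 * (fl L j * fl L i) ^ m * (fl L 0 * (fl L j * fl L i) ^ m)
        = fl L 0 * ((fl L j * fl L i) ^ m * fl L 0) * (fl L j * fl L i) ^ m := by
          simp only [mul_assoc]
      _ = (fl L 0 * fl L 0) * ((fl L j * fl L i) ^ m * (fl L j * fl L i) ^ m) := by
          rw [← hc.eq]; simp only [mul_assoc]
      _ = 1 := by rw [hL.sq, hsq, one_mul]
  have hrev : ∀ i j m : Nat, (fl L i * fl L j) ^ m = 1 → (fl L j * fl L i) ^ m = 1 := by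
    intro i j m h
    have e : fl L j * fl L i = (fl L i * fl L j)⁻¹ := by
      rw [mul_inv_rev, inv_eq_of_mul_eq_one_right (hL.sq _), inv_eq_of_mul_eq_one_right (hL.sq _)]
    rw [e, inv_pow, h, inv_one]
  have h8 := pair_one hs hn he hL (2, 3, 8) (by decide +kernel)
  have h4 := pair_one hs hn he hL (5, 6, 4) (by decide +kernel)
  simp only [pairW, ← pow_ev, ev_cons, ev_nil, mul_one] at h8 h4
  refine ⟨fun w hw => ?_, key 5 6 2 (by decide +kernel) (by decide +kernel) ?_ _ ?_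
    (ev_rels _ (by decide +kernel))⟩
  · rcases base_cases w hw with hw | rfl
    · obtain ⟨p, hp, rfl⟩ := List.mem_map.mp hw
      exact pair_one hs hn he hL p hp
    · refine key 2 3 4 (by decide +kernel) (by decide +kernel) ?_ _ ?_
        (ev_rels _ (by decide +kernel))
      · rw [← pow_add]; exact hrev 2 3 8 h8
      · simp only [ev_cons, ev_nil, mul_one, pow_succ, pow_zero, one_mul, mul_assoc]
  · rw [← pow_add]; exact hrev 5 6 4 h4
  · simp only [ev_cons, ev_nil, mul_one, pow_succ, pow_zero, one_mul, mul_assoc]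

/-- The relator on `b, c, d, e` holds. -/
theorem rJ_one (hs : Cfsg.IsStemExtension σ) (hn : Odd n)
    (he : ∀ z : Γ, σ z = 1 → z ^ n = 1) {L : List Γ} (hL : IsLift σ L) : ev L rJ = 1 := by
  obtain ⟨hw4, hw7, hw3⟩ := wJ_ok
  set W := ev L wJ with hW
  set E := fl L 4 with hE
  set G := ev L gJ with hG
  have hW3 : W * (W * W) = 1 := by
    have := exact_of_inj hL (inj4 hs hL (base_one hs hn he hL).1) (S := List.range 4)
      (w := wJ ++ (wJ ++ wJ)) (fun l hl => List.mem_range.mpr (by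
        simp only [List.mem_append, or_self] at hl
        exact letters_lt hw4 wJ (List.mem_singleton_self _) l hl)) (ev_Lg_eq_one hw7 hw3)
    rwa [ev_append, ev_append] at this
  set z := ev L rJ with hz
  have hzσ : σ z = 1 := by rw [hz, map_ev hL.img]; exact ev_rels _ (by decide +kernel)
  have hzE : z = W * E * (W * E * (W * E)) := by
    rw [hz, rJ_split]; simp only [ev_append, ev_cons, ev_nil, mul_one, ← hW, ← hE]
  set k := W * (G * W * G⁻¹) with hk
  have hkσ : σ k = 1 := by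
    have h := sameW_eq gJ_ok.1
    rw [ev_append, ev_append, ev_reverse sq_all, ev_reverse sq_all] at h
    rw [hk, map_mul, map_mul, map_mul, map_inv, hW, hG, map_ev hL.img, map_ev hL.img, mul_assoc, h,
      mul_inv_cancel]
  have hkc := central hs hkσ
  have hconjW : G * W * G⁻¹ = W⁻¹ * k := by rw [hk, inv_mul_cancel_left]
  have hEσ : σ (E * (G * E * G⁻¹)) = 1 := by
    have h := sameW_eq gJ_ok.2
    simp only [ev_append, ev_reverse sq_all, ev_cons, ev_nil, mul_one, ← mul_assoc] at h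
    rw [map_mul, map_mul, map_mul, map_inv, hG, map_ev hL.img, hE, hL.img, h, sq_all]
  have hEE : G * E * G⁻¹ = E := by
    have e1 : G * E * G⁻¹ = E * (E * (G * E * G⁻¹)) := by rw [← mul_assoc E E, hL.sq, one_mul]
    have e2 := central hs hEσ E
    have e3 : (G * E * G⁻¹) * (G * E * G⁻¹) = 1 := by
      calc _ = G * (E * E) * G⁻¹ := by group
        _ = 1 := by rw [hL.sq, mul_one, mul_inv_cancel]
    have h1 : E * (G * E * G⁻¹) = 1 := by
      refine eq_one_of_sq hn (he _ hEσ) ?_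
      calc E * (G * E * G⁻¹) * (E * (G * E * G⁻¹))
          = E * (G * E * G⁻¹) * E * (G * E * G⁻¹) := by group
        _ = E * E * (G * E * G⁻¹) * (G * E * G⁻¹) := by rw [← e2]; group
        _ = 1 := by rw [hL.sq, one_mul, e3]
    rw [e1, h1, mul_one]
  have hz3 : z = (W * E) ^ 3 := by
    rw [hzE]; simp only [pow_succ, pow_zero, one_mul, mul_assoc]
  have hW3' : W ^ 3 = 1 := by
    rw [← hW3]; simp only [pow_succ, pow_zero, one_mul, mul_assoc]
  have hk3 : k ^ 3 = 1 := by
    have h1 : (G * W * G⁻¹) ^ 3 = 1 := by rw [conj_pow, hW3', mul_one, mul_inv_cancel]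
    rwa [hconjW, (show Commute W⁻¹ k from hkc W⁻¹).mul_pow, inv_pow, hW3', inv_one, one_mul] at h1
  have hconj : G * z * G⁻¹ = (W⁻¹ * E) ^ 3 := by
    calc G * z * G⁻¹ = (G * (W * E) * G⁻¹) ^ 3 := by rw [hz3, conj_pow]
      _ = ((G * W * G⁻¹) * (G * E * G⁻¹)) ^ 3 := by group
      _ = (W⁻¹ * E * k) ^ 3 := by rw [hEE, hconjW, mul_assoc, ← hkc E, ← mul_assoc]
      _ = (W⁻¹ * E) ^ 3 := by
        rw [(show Commute (W⁻¹ * E) k from hkc _).mul_pow, hk3, mul_one]
  rw [central hs hzσ G, mul_inv_cancel_right] at hconj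
  refine eq_one_of_sq hn (he _ hzσ) ?_
  have iE : E⁻¹ = E := inv_eq_of_mul_eq_one_right (hL.sq 4)
  have hinv : z⁻¹ = z := by
    calc z⁻¹ = (E * W⁻¹) ^ 3 := by rw [hz3, ← inv_pow, mul_inv_rev, iE]
      _ = (E * (W⁻¹ * E) * E⁻¹) ^ 3 := by rw [mul_assoc, mul_assoc, mul_inv_cancel, mul_one]
      _ = E * z * E⁻¹ := by rw [conj_pow, ← hconj]
      _ = z := by rw [central hs hzσ E, mul_inv_cancel_right]
  nth_rewrite 2 [← hinv]
  exact mul_inv_cancel z

/-- Lifts of a stem extension of odd exponent satisfying the relator on `b, f, g` split it. -/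
theorem ker_eq_bot_odd (hs : Cfsg.IsStemExtension σ) (hn : Odd n)
    (he : ∀ z : Γ, σ z = 1 → z ^ n = 1) {L : List Γ} (hL : IsLift σ L) (hB : ev L rB = 1) :
    σ.ker = ⊥ := by
  obtain ⟨hb, hg⟩ := base_one hs hn he hL
  have hJ := rJ_one hs hn he hL
  refine ker_eq_bot hs hL fun w hw => ?_
  rcases rels_cases w hw with hw' | rfl | rfl | rfl | rfl | rfl
  · obtain ⟨p, hp, rfl⟩ := List.mem_map.mp hw'
    exact pair_one hs hn he hL p hp
  · exact hb _ (by decide +kernel)
  · exact hg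
  · exact exact_of_inj hL (inj6 hs hL hb hJ) (S := List.range 6) (by decide +kernel) (ev_rels _ hw)
  · exact hB
  · exact hJ

/-- For exponent five the relator on `b, f, g` holds. -/
theorem rB_one_five (hs : Cfsg.IsStemExtension σ) (he : ∀ z : Γ, σ z = 1 → z ^ 5 = 1)
    {L : List Γ} (hL : IsLift σ L) : ev L rB = 1 := by
  set X := ev L [1, 5, 6] with hX
  set G := ev L gB with hG
  have hzX : ev L rB = X ^ 5 := by rw [rB_split, ← pow_ev]
  set k := X * (G * X * G⁻¹) with hk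
  have hkσ : σ k = 1 := by
    have h := sameW_eq gB_ok
    rw [ev_append, ev_append, ev_reverse sq_all, show [6, 5, 1] = [1, 5, 6].reverse from rfl,
      ev_reverse sq_all] at h
    rw [hk, map_mul, map_mul, map_mul, map_inv, hX, hG, map_ev hL.img, map_ev hL.img, mul_assoc, h,
      mul_inv_cancel]
  have hzσ : σ (ev L rB) = 1 := by rw [map_ev hL.img]; exact ev_rels _ (by decide +kernel)
  refine eq_one_of_sq (n := 5) ⟨2, rfl⟩ (he _ hzσ) ?_
  have hc : Commute X⁻¹ k := central hs hkσ X⁻¹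
  have e : G * X ^ 5 * G⁻¹ = (X ^ 5)⁻¹ := by
    rw [← conj_pow, show G * X * G⁻¹ = X⁻¹ * k by rw [hk, inv_mul_cancel_left], hc.mul_pow,
      he k hkσ, mul_one, inv_pow]
  rw [hzX] at hzσ ⊢
  rw [central hs hzσ G, mul_inv_cancel_right] at e
  nth_rewrite 2 [e]
  exact mul_inv_cancel _

end CfsgLib.Coset.Suz.Schur
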