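import Cfsg.Agent.Coset.Suz.Schur.Base

/-!
Stem extensions of `Cfsg.Spor.Suz` with kernel of exponent two, in which lifts of a commuting pair
of conjugates of `d` commute, are trivial.
-/

set_option autoImplicit false
set_option maxRecDepth 100000
set_option Elab.async false

namespace CfsgLib.Coset.Suz.Schur

open CfsgLib.Coset

theorem qa_ok : ∀ p ∈ qa, sameW [p.1] (cw p.2 0) = true := by decide +kernel

theorem qe_ok : sameW [4] (cw qe 3) = true := by decide +kernel

theorem pair_ok : sameW (3 :: cw qy 3) (cw qs 3) = true ∧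
    sameW (3 :: cw qy 3) (cw qy 3 ++ [3]) = true := by
  constructor <;> decide +kernel

theorem eight_ok : ∀ p ∈ [([0, 1], 3), ([0, 2], 4), ([1, 2], 5), ([0, 1, 2], 6)],
    sameW (((p : List Nat × Nat).1).flatMap fun i => cw (qE.getD i []) 0)
      (cw (qE.getD p.2 []) 0) = true := by
  decide +kernel

variable {Γ : Type} [Group Γ] {σ : Γ →* Cfsg.Spor.Suz}

/-- A kernel element is its own inverse. -/
abbrev Two (σ : Γ →* Cfsg.Spor.Suz) : Prop := ∀ z : Γ, σ z = 1 → z * z = 1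

/-- Lifts of the chosen commuting pair of conjugates of `d` commute. -/
abbrev PairComm (σ : Γ →* Cfsg.Spor.Suz) : Prop :=
  ∀ X Y : Γ, σ X = fl Lg 3 → σ Y = ev Lg (cw qy 3) → X * Y = Y * X

/-- All lifts of conjugates of an involution have the same square. -/
theorem sq_eq (hs : Cfsg.IsStemExtension σ) (h2 : Two σ) {A X t : Γ} {a : Cfsg.Spor.Suz}
    (ha : a * a = 1) (hA : σ A = a) (hX : σ X = σ t * a * (σ t)⁻¹) : X * X = A * A := by
  set k := (t * A * t⁻¹)⁻¹ * X with hk
  have hk1 : σ k = 1 := by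
    rw [hk, map_mul, map_inv, map_mul, map_mul, map_inv, hA, hX, inv_mul_cancel]
  have hc := central hs hk1
  have hz : σ (A * A) = 1 := by rw [map_mul, hA, ha]
  have hX' : X = t * A * t⁻¹ * k := by rw [hk, mul_inv_cancel_left]
  calc X * X = t * A * t⁻¹ * (k * (t * A * t⁻¹)) * k := by rw [hX']; group
    _ = t * A * t⁻¹ * ((t * A * t⁻¹) * k) * k := by rw [← hc (t * A * t⁻¹)]
    _ = t * (A * A) * t⁻¹ * (k * k) := by group
    _ = (A * A) * t * t⁻¹ * (k * k) := by rw [← central hs hz t]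
    _ = A * A := by rw [h2 k hk1, mul_one, mul_inv_cancel_right]

theorem sq_word (hs : Cfsg.IsStemExtension σ) (h2 : Two σ) {l : Nat} {A X : Γ}
    (hA : σ A = fl Lg l) {v q : List Nat} (hX : σ X = ev Lg v) (hc : sameW v (cw q l) = true) :
    X * X = A * A := by
  obtain ⟨t, ht⟩ := hs.1 (ev Lg q)
  exact sq_eq hs h2 (sq_all l) hA (t := t) (by rw [hX, ht, sameW_eq hc, ev_cw sq_all])

/-- Lifts of `a` square to one. -/
theorem sqA (hs : Cfsg.IsStemExtension σ) (h2 : Two σ) {A : Γ} (hA : σ A = fl Lg 0) :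
    A * A = 1 := by
  set z := A * A with hzdef
  have hz : σ z = 1 := by rw [hzdef, map_mul, hA, sq_all]
  have hc := central hs hz
  have hzz := h2 z hz
  have mk : ∀ i : Nat, ∃ X : Γ, σ X = ev Lg (cw (qE.getD i []) 0) ∧ X * X = z := fun i => by
    obtain ⟨X, hX⟩ := hs.1 (ev Lg (cw (qE.getD i []) 0))
    obtain ⟨t, ht⟩ := hs.1 (ev Lg (qE.getD i []))
    exact ⟨X, hX, sq_eq hs h2 (sq_all 0) hA (t := t) (by rw [hX, ht, ev_cw sq_all])⟩
  obtain ⟨X, hX, sX⟩ := mk 0
  obtain ⟨Y, hY, sY⟩ := mk 1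
  obtain ⟨Z, hZ, sZ⟩ := mk 2
  have sq2 : ∀ {P Q : Γ} {i j k : Nat}, σ P = ev Lg (cw (qE.getD i []) 0) →
      σ Q = ev Lg (cw (qE.getD j []) 0) → ([i, j], k) ∈ [([0, 1], 3), ([0, 2], 4), ([1, 2], 5),
        ([0, 1, 2], 6)] → P * Q * (P * Q) = z := by
    intro P Q i j k hP hQ hm
    refine sq_word hs h2 hA (q := qE.getD k []) ?_ (eight_ok _ hm)
    rw [map_mul, hP, hQ, ← ev_append]
    simp
  have anti : ∀ P Q : Γ, P * P = z → Q * Q = z → P * Q * (P * Q) = z → Q * P = z * (P * Q) := by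
    intro P Q hP hQ hPQ
    calc Q * P = P⁻¹ * (P * Q * (P * Q)) * Q⁻¹ := by group
      _ = P⁻¹ * (P * P) * Q⁻¹ := by rw [hPQ, hP]
      _ = P * Q * (Q * Q)⁻¹ := by group
      _ = P * Q * z := by rw [hQ, inv_eq_of_mul_eq_one_right hzz]
      _ = z * (P * Q) := hc _
  have sW := sq2 (k := 5) hY hZ (by simp)
  have a1 := anti X Y sX sY (sq2 (k := 3) hX hY (by simp))
  have a2 := anti X Z sX sZ (sq2 (k := 4) hX hZ (by simp))
  have sXW : X * (Y * Z) * (X * (Y * Z)) = z := by
    refine sq_word hs h2 hA (q := qE.getD 6 []) ?_ (eight_ok ([0, 1, 2], 6) (by simp))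
    rw [map_mul, map_mul, hX, hY, hZ, ← ev_append, ← ev_append]
    simp
  have a3 := anti X (Y * Z) sX sW sXW
  have h4 : Y * Z * X = X * (Y * Z) := by
    calc Y * Z * X = Y * (Z * X) := mul_assoc ..
      _ = Y * (z * (X * Z)) := by rw [a2]
      _ = z * (Y * X) * Z := by rw [← mul_assoc, hc Y]; simp only [mul_assoc]
      _ = (z * z) * (X * Y) * Z := by rw [a1, ← mul_assoc z z]
      _ = X * (Y * Z) := by rw [hzz, one_mul, mul_assoc]
  exact (mul_eq_right.mp (a3.symm.trans h4))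

/-- Lifts of `d` square to one. -/
theorem sqD (hs : Cfsg.IsStemExtension σ) (h2 : Two σ) (hp : PairComm σ) {D : Γ}
    (hD : σ D = fl Lg 3) : D * D = 1 := by
  obtain ⟨Y, hY⟩ := hs.1 (ev Lg (cw qy 3))
  obtain ⟨t, ht⟩ := hs.1 (ev Lg qy)
  have sY : Y * Y = D * D := sq_eq hs h2 (sq_all 3) hD (t := t) (by rw [hY, ht, ev_cw sq_all])
  have s1 : D * Y * (D * Y) = D * D := by
    refine sq_word hs h2 hD ?_ pair_ok.1
    rw [map_mul, hD, hY, ev_cons]
  have hz : σ (D * D) = 1 := by rw [map_mul, hD, sq_all]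
  calc D * D = D * Y * (D * Y) := s1.symm
    _ = D * (Y * D) * Y := by simp only [mul_assoc]
    _ = (D * D) * (Y * Y) := by rw [← hp D Y hD hY]; simp only [mul_assoc]
    _ = 1 := by rw [sY]; exact h2 _ hz

/-- All lifts of the generators square to one. -/
theorem sq_gen (hs : Cfsg.IsStemExtension σ) (h2 : Two σ) (hp : PairComm σ) {X : Γ} {l : Nat}
    (hl : l < 7) (hX : σ X = fl Lg l) : X * X = 1 := by
  obtain ⟨A, hA⟩ := hs.1 (fl Lg 0)
  obtain ⟨D, hD⟩ := hs.1 (fl Lg 3)
  have hX' : σ X = ev Lg [l] := by simpa using hX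
  have key : ∀ l < 7, l = 3 ∨ l = 0 ∨ l = 4 ∨ ∃ p ∈ qa, p.1 = l := by decide +kernel
  rcases key l hl with rfl | rfl | rfl | ⟨p, hp', rfl⟩
  · exact sqD hs h2 hp hX
  · exact sqA hs h2 hX
  · rw [sq_word hs h2 hD hX' qe_ok]; exact sqD hs h2 hp hD
  · rw [sq_word hs h2 hA hX' (qa_ok p hp')]; exact sqA hs h2 hA

/-- A stem extension with kernel of exponent two in which the pair commutes is trivial. -/
theorem ker_eq_bot_two (hs : Cfsg.IsStemExtension σ) (h2 : Two σ) (hp : PairComm σ) :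
    σ.ker = ⊥ := by
  have sq : ∀ {X : Γ} {l : Nat}, l < 7 → σ X = fl Lg l → X * X = 1 :=
    fun hl hX => sq_gen hs h2 hp hl hX
  have gauge : ∀ {P Q : Γ} {m : Nat}, σ ((P * Q) ^ m) = 1 → Odd m →
      σ (Q * (P * Q) ^ m) = σ Q ∧ (P * (Q * (P * Q) ^ m)) ^ m = 1 := by
    intro P Q m h hm
    refine ⟨by rw [map_mul, h, mul_one], ?_⟩
    obtain ⟨j, rfl⟩ := hm
    rw [← mul_assoc, (show Commute (P * Q) ((P * Q) ^ (2 * j + 1)) from
      (Commute.refl _).pow_right _).mul_pow]
    generalize (P * Q) ^ (2 * j + 1) = k at h ⊢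
    rw [← mul_one k] at h
    have hk : k * k = 1 := h2 k (by simpa using h)
    rw [pow_succ, pow_mul, pow_two, hk, one_pow, one_mul, hk]
  obtain ⟨C0, hC0⟩ := hs.1 (fl Lg 2)
  obtain ⟨D0, hD0⟩ := hs.1 (fl Lg 3)
  obtain ⟨B0, hB0⟩ := hs.1 (fl Lg 1)
  obtain ⟨E0, hE0⟩ := hs.1 (fl Lg 4)
  obtain ⟨F0, hF0⟩ := hs.1 (fl Lg 5)
  obtain ⟨G0, hG0⟩ := hs.1 (fl Lg 6)
  set A := (C0 * D0) ^ 4 with hAdef
  have hA : σ A = fl Lg 0 := by
    have h := ev_rels [0, 3, 2, 3, 2, 3, 2, 3, 2] (by decide +kernel)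
    have e : ev Lg [0, 3, 2, 3, 2, 3, 2, 3, 2] = fl Lg 0 * (fl Lg 3 * fl Lg 2) ^ 4 := by
      simp only [ev_cons, ev_nil, mul_one, pow_succ, pow_zero, one_mul, mul_assoc]
    rw [e, mul_eq_one_iff_eq_inv, ← inv_pow, mul_inv_rev, inv_eq_of_mul_eq_one_right (sq_all 3),
      inv_eq_of_mul_eq_one_right (sq_all 2)] at h
    rw [hAdef, map_pow, map_mul, hC0, hD0, h]
  have rel : ∀ (i j m : Nat), (List.replicate m [i, j]).flatten ∈ rels →
      (fl Lg i * fl Lg j) ^ m = 1 := by
    intro i j m h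
    have := ev_rels _ h
    rw [← pow_ev] at this
    simpa using this
  obtain ⟨hB, hab⟩ := gauge (P := A) (Q := B0) (m := 5)
    (by rw [map_pow, map_mul, hA, hB0]; exact rel 0 1 5 (by decide +kernel)) ⟨2, rfl⟩
  rw [hB0] at hB
  set B := B0 * (A * B0) ^ 5
  obtain ⟨hC, hbc⟩ := gauge (P := B) (Q := C0) (m := 3)
    (by rw [map_pow, map_mul, hB, hC0]; exact rel 1 2 3 (by decide +kernel)) ⟨1, rfl⟩
  rw [hC0] at hC
  set C := C0 * (B * C0) ^ 3 with hCdef
  obtain ⟨hF, hbf⟩ := gauge (P := B) (Q := F0) (m := 3)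
    (by rw [map_pow, map_mul, hB, hF0]; exact rel 1 5 3 (by decide +kernel)) ⟨1, rfl⟩
  rw [hF0] at hF
  set F := F0 * (B * F0) ^ 3
  obtain ⟨hG, hbg⟩ := gauge (P := B) (Q := G0) (m := 3)
    (by rw [map_pow, map_mul, hB, hG0]; exact rel 1 6 3 (by decide +kernel)) ⟨1, rfl⟩
  rw [hG0] at hG
  set G := G0 * (B * G0) ^ 3
  obtain ⟨hE1, hde⟩ := gauge (P := D0) (Q := E0) (m := 3)
    (by rw [map_pow, map_mul, hD0, hE0]; exact rel 3 4 3 (by decide +kernel)) ⟨1, rfl⟩
  rw [hE0] at hE1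
  set E1 := E0 * (D0 * E0) ^ 3
  set k := ((B * C * D0 * C * D0) ^ 5 * E1) ^ 3 with hkdef
  have hk : σ k = 1 := by
    have h := ev_rels rJ (by decide +kernel)
    rw [show rJ = (List.replicate 3 ((List.replicate 5 [1, 2, 3, 2, 3]).flatten ++ [4])).flatten
      by decide +kernel, ← pow_ev, ev_append, ← pow_ev] at h
    simp only [ev_cons, ev_nil, mul_one, ← mul_assoc] at h
    rw [hkdef, map_pow, map_mul, map_pow, map_mul, map_mul, map_mul, map_mul, hB, hC, hD0, hE1]
    exact h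
  have hkc := central hs hk
  have hkk := h2 k hk
  set D := D0 * k with hDdef
  have hD : σ D = fl Lg 3 := by rw [hDdef, map_mul, hk, mul_one, hD0]
  set E := E1 * k with hEdef
  have hE : σ E = fl Lg 4 := by rw [hEdef, map_mul, hk, mul_one, hE1]
  have hCk : σ ((B * C0) ^ 3) = 1 := by
    rw [map_pow, map_mul, hB, hC0]; exact rel 1 2 3 (by decide +kernel)
  have hA2 : A = (C * D) ^ 4 := by
    have e : C * D = C0 * D0 * ((B * C0) ^ 3 * k) := by
      rw [hCdef, hDdef, mul_assoc C0, ← central hs hCk (D0 * k), mul_assoc D0 k, ← mul_assoc C0,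
        hkc ((B * C0) ^ 3)]
    have hm : σ ((B * C0) ^ 3 * k) = 1 := by rw [map_mul, hCk, hk, mul_one]
    rw [e, (show Commute (C0 * D0) ((B * C0) ^ 3 * k) from central hs hm _).mul_pow, hAdef,
      show (4 : ℕ) = 2 * 2 from rfl, pow_mul _ 2 2, pow_mul _ 2 2, pow_two ((B * C0) ^ 3 * k),
      h2 _ hm, one_pow, mul_one]
  have a2 := sq (by norm_num) hA
  have b2 := sq (by norm_num) hB
  have c2 := sq (by norm_num) hC
  have d2 := sq (by norm_num) hD
  have e2 := sq (by norm_num) hE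
  have f2 := sq (by norm_num) hF
  have g2 := sq (by norm_num) hG
  have hL : IsLift σ [A, B, C, D, E, F, G] := by
    refine ⟨rfl, fun l => ?_, fun x => ?_⟩
    · rcases Nat.lt_or_ge l 7 with hl | hl
      · interval_cases l <;> assumption
      · rw [fl_of_le _ (by simpa using hl), fl_of_le _ (by rw [len_Lg]; exact hl), map_one]
    · rcases Nat.lt_or_ge x 7 with hx | hx
      · interval_cases x <;> assumption
      · rw [fl_of_le _ (by simpa using hx), one_mul]
  clear_value A C D E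
  have iC : C⁻¹ = C := inv_eq_of_mul_eq_one_right c2
  have iD : D⁻¹ = D := inv_eq_of_mul_eq_one_right d2
  have iA : A⁻¹ = A := inv_eq_of_mul_eq_one_right a2
  have commA : ∀ X : Γ, X * (C * D) * X⁻¹ = (C * D)⁻¹ → X * X = 1 →
      A * X * (A * X) = 1 := by
    intro X hX x2
    have h : X * A * X⁻¹ = A := by rw [hA2, ← conj_pow, hX, inv_pow, ← hA2, iA]
    have h' : X * A = A * X := by rw [mul_inv_eq_iff_eq_mul] at h; exact h
    calc A * X * (A * X) = A * (X * A) * X := by simp only [mul_assoc]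
      _ = (A * A) * (X * X) := by rw [h']; simp only [mul_assoc]
      _ = 1 := by rw [a2, x2, one_mul]
  have hac : A * C * (A * C) = 1 :=
    commA C (by rw [mul_inv_rev C D, iC, iD, ← mul_assoc, c2, one_mul]) c2
  have had : A * D * (A * D) = 1 :=
    commA D (by rw [mul_inv_rev C D, iC, iD, mul_assoc, mul_assoc C D D, d2, mul_one]) d2
  have hcd : (C * D) ^ 8 = 1 := by
    rw [show (8 : ℕ) = 4 + 4 from rfl, pow_add, ← hA2]; exact a2
  have hdc : A * (D * C) ^ 4 = 1 := by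
    rw [show D * C = (C * D)⁻¹ by rw [mul_inv_rev C D, iC, iD], inv_pow, ← hA2, mul_inv_cancel]
  have hde' : (D * E) ^ 3 = 1 := by
    have e : D * E = D0 * E1 * (k * k) := by
      rw [hDdef, hEdef, mul_assoc D0, ← mul_assoc k E1, ← hkc E1]; simp only [mul_assoc]
    rw [e, hkk, mul_one, hde]
  have hJ : ev [A, B, C, D, E, F, G] rJ = 1 := by
    rw [show rJ = (List.replicate 3 ((List.replicate 5 [1, 2, 3, 2, 3]).flatten ++ [4])).flatten
      by decide +kernel, ← pow_ev, ev_append, ← pow_ev]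
    simp only [ev_cons, ev_nil, mul_one, fl, List.getD_cons_zero, List.getD_cons_succ, ← mul_assoc]
    have e : B * C * D * C * D = B * C * D0 * C * D0 * (k * k) := by
      rw [hDdef]
      calc B * C * (D0 * k) * C * (D0 * k) = B * C * D0 * (k * (C * D0)) * k := by
            simp only [mul_assoc]
        _ = _ := by rw [← hkc (C * D0)]; simp only [mul_assoc]
    rw [e, hkk, mul_one, hEdef, ← mul_assoc,
      (show Commute ((B * C * D0 * C * D0) ^ 5 * E1) k from hkc _).mul_pow, ← hkdef, pow_succ k,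
      pow_two, hkk, one_mul, hkk]
  have hb : ∀ w ∈ base, ev [A, B, C, D, E, F, G] w = 1 := by
    intro w hw
    simp only [base, List.mem_cons, List.not_mem_nil, or_false] at hw
    obtain rfl | rfl | rfl | rfl | rfl | rfl | rfl | rfl | rfl | rfl | rfl | rfl | rfl | rfl |
      rfl | rfl := hw <;>
      simp only [ev_cons, ev_nil, mul_one, fl, List.getD_cons_zero, List.getD_cons_succ]
    all_goals first
      | assumption
      | simpa only [pow_succ, pow_zero, one_mul, mul_assoc] using hab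
      | simpa only [pow_succ, pow_zero, one_mul, mul_assoc] using hbc
      | simpa only [pow_succ, pow_zero, one_mul, mul_assoc] using hbf
      | simpa only [pow_succ, pow_zero, one_mul, mul_assoc] using hbg
      | simpa only [pow_succ, pow_zero, one_mul, mul_assoc] using hde'
      | simpa only [pow_succ, pow_zero, one_mul, mul_assoc] using hac
      | simpa only [pow_succ, pow_zero, one_mul, mul_assoc] using had
      | simpa only [pow_succ, pow_zero, one_mul, mul_assoc] using hcd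
      | simpa only [pow_succ, pow_zero, one_mul, mul_assoc] using hdc
  have hB2 : ev [A, B, C, D, E, F, G] (rB ++ rB) = 1 := by
    rw [ev_append]
    exact h2 _ (by rw [map_ev hL.img]; exact ev_rels _ (by decide +kernel))
  have hi := inj7 hs hL hb hJ hB2
  exact ker_eq_bot hs hL fun w hw =>
    exact_of_inj hL hi (fun l hl => List.mem_range.mpr (by
      have hlt : ∀ w ∈ rels, ∀ l ∈ w, l < 7 := by decide +kernel
      exact hlt w hw l hl)) (ev_rels w hw)

end CfsgLib.Coset.Suz.Schur
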